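import Cfsg.Agent.Lib.NoSCNThree.Basic

/-!
Automorphisms of odd order on abelian two-subgroups with at most four square roots of one.
-/

set_option autoImplicit false
set_option linter.unusedSectionVars false

open scoped commutatorElement

namespace Cfsg.Agent.Lib.NoSCNThree

variable {X : Type*} [Group X] [Finite X] {A : Subgroup (MulAut X)}

theorem sq_mul_eq (u v : X) : u * v * (u * v) = u * u * ⁅u⁻¹, v⁆ * (v * v) := by
  rw [commutatorElement_def]; group

/-- If all squares of a subgroup lie in another one, then so do the commutators. -/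
theorem comm_mem_of_sq {Y D : Subgroup X} (h : ∀ y ∈ Y, y * y ∈ D) {u v : X} (hu : u ∈ Y)
    (hv : v ∈ Y) : ⁅u, v⁆ ∈ D := by
  have key : ∀ w ∈ Y, ⁅w⁻¹, v⁆ ∈ D := fun w hw => by
    have e : ⁅w⁻¹, v⁆ = (w * w)⁻¹ * (w * v * (w * v)) * (v * v)⁻¹ := by
      rw [commutatorElement_def]; group
    rw [e]
    exact mul_mem (mul_mem (inv_mem (h w hw)) (h _ (mul_mem hw hv))) (inv_mem (h v hv))
  simpa using key u⁻¹ (inv_mem hu)

theorem Setting.fix_of_sq_fix (hS : Setting X A) {φ : MulAut X} (hφ : φ ∈ A) {t : X}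
    (h : φ (φ t) = t) : φ t = t := by
  haveI : Finite (MulAut X) := Finite.of_injective _ DFunLike.coe_injective
  have hodd : Odd (orderOf φ) := by
    rw [← Subgroup.orderOf_mk φ hφ]
    exact hS.odd.of_dvd_nat (orderOf_dvd_natCard _)
  obtain ⟨k, hk⟩ := hodd
  have h2 : ∀ n : ℕ, (φ ^ (2 * n)) t = t := by
    intro n
    induction n with
    | zero => simp
    | succ n ih =>
      rw [Nat.mul_succ, pow_succ', pow_succ', MulAut.mul_apply, MulAut.mul_apply, ih, h]
  have h1 : (φ ^ (2 * k + 1)) t = φ t := by rw [pow_succ', MulAut.mul_apply, h2]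
  rw [← h1, ← hk, pow_orderOf_eq_one, MulAut.one_apply]

/-- An abelian normal subgroup invariant under all automorphisms. -/
structure AbChar (D : Subgroup X) : Prop where
  char : D.Characteristic
  comm : ∀ a ∈ D, ∀ b ∈ D, a * b = b * a

variable {D : Subgroup X}

theorem AbChar.normal (hD : AbChar D) : D.Normal := by
  haveI := hD.char
  infer_instance

theorem AbChar.map_mem (hD : AbChar D) (φ : MulAut X) {d : X} (hd : d ∈ D) : φ d ∈ D := by
  have h := Subgroup.characteristic_iff_le_comap.mp hD.char φ hd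
  simpa using h

theorem AbChar.conj_mem (hD : AbChar D) {d : X} (hd : d ∈ D) (g : X) : g * d * g⁻¹ ∈ D :=
  hD.normal.conj_mem d hd g

theorem AbChar.comm_mem (hD : AbChar D) {d : X} (hd : d ∈ D) (g : X) : ⁅g, d⁆ ∈ D := by
  rw [commutatorElement_def]
  exact mul_mem (hD.conj_mem hd g) (inv_mem hd)

theorem AbChar.comm_mem' (hD : AbChar D) {d : X} (hd : d ∈ D) (g : X) : ⁅d, g⁆ ∈ D := by
  rw [← commutatorElement_inv]
  exact inv_mem (hD.comm_mem hd g)

/-- Commutation with a fixed element is multiplicative on `D`. -/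
theorem AbChar.comm_mul (hD : AbChar D) (x : X) {d d' : X} (hd : d ∈ D) (hd' : d' ∈ D) :
    ⁅x, d * d'⁆ = ⁅x, d⁆ * ⁅x, d'⁆ := by
  have h := hD.comm d hd ⁅x, d'⁆ (hD.comm_mem hd' x)
  calc ⁅x, d * d'⁆ = ⁅x, d⁆ * (d * ⁅x, d'⁆ * d⁻¹) := by simp only [commutatorElement_def]; group
    _ = ⁅x, d⁆ * ⁅x, d'⁆ := by rw [h, mul_inv_cancel_right]

theorem AbChar.comm_pow (hD : AbChar D) (x : X) {d : X} (hd : d ∈ D) (n : ℕ) :
    ⁅x, d ^ n⁆ = ⁅x, d⁆ ^ n := by
  induction n with
  | zero => simp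
  | succ n ih => rw [pow_succ, hD.comm_mul x (pow_mem hd n) hd, ih, pow_succ]

theorem AbChar.comm_left (hD : AbChar D) (x y : X) {d : X} (hd : d ∈ D) :
    ⁅x * y, d⁆ = ⁅x, ⁅y, d⁆⁆ * ⁅y, d⁆ * ⁅x, d⁆ := by
  simp only [commutatorElement_def]; group

/-- The square roots of one in `D`. -/
def omega (D : Subgroup X) : Subgroup X := Subgroup.closure {d | d ∈ D ∧ d * d = 1}

theorem AbChar.mem_omega (hD : AbChar D) {d : X} : d ∈ omega D ↔ d ∈ D ∧ d * d = 1 := by
  refine ⟨fun h => ?_, fun h => Subgroup.subset_closure h⟩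
  induction h using Subgroup.closure_induction with
  | mem x hx => exact hx
  | one => exact ⟨one_mem D, one_mul 1⟩
  | mul u v _ _ hu hv =>
    refine ⟨mul_mem hu.1 hv.1, ?_⟩
    calc u * v * (u * v) = u * (v * u) * v := by group
      _ = u * (u * v) * v := by rw [hD.comm v hv.1 u hu.1]
      _ = u * u * (v * v) := by group
      _ = 1 := by rw [hu.2, hv.2, one_mul]
  | inv u _ hu => exact ⟨inv_mem hu.1, by rw [← mul_inv_rev, hu.2, inv_one]⟩

theorem AbChar.omega_normal (hD : AbChar D) : (omega D).Normal := ⟨fun d hd g => by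
  rw [hD.mem_omega] at hd ⊢
  refine ⟨hD.conj_mem hd.1 g, ?_⟩
  calc g * d * g⁻¹ * (g * d * g⁻¹) = g * (d * d) * g⁻¹ := by group
    _ = 1 := by rw [hd.2, mul_one, mul_inv_cancel]⟩

theorem AbChar.omega_sq (hD : AbChar D) : ∀ d ∈ omega D, d * d = 1 := fun _ h => (hD.mem_omega.mp h).2

theorem AbChar.omega_map (hD : AbChar D) (φ : MulAut X) {d : X} (hd : d ∈ omega D) :
    φ d ∈ omega D := by
  rw [hD.mem_omega] at hd ⊢
  exact ⟨hD.map_mem φ hd.1, by rw [← map_mul, hd.2, map_one]⟩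

variable (hS : Setting X A)

include hS

theorem AbChar.omega_cases (hD : AbChar D) {i j : X} (hi : i ∈ omega D) (hj : j ∈ omega D)
    (hi1 : i ≠ 1) (hj1 : j ≠ 1) (hij : i ≠ j) {t : X} (ht : t ∈ omega D) :
    t = 1 ∨ t = i ∨ t = j ∨ t = i * j := by
  classical
  haveI : Fintype X := Fintype.ofFinite X
  by_contra h
  simp only [not_or] at h
  have hsub : ({1, i, j, i * j, t} : Finset X) ⊆ Finset.univ.filter (· ∈ omega D) := by
    intro w hw
    simp only [Finset.mem_insert, Finset.mem_singleton] at hw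
    simp only [Finset.mem_filter, Finset.mem_univ, true_and]
    rcases hw with rfl | rfl | rfl | rfl | rfl
    exacts [one_mem _, hi, hj, mul_mem hi hj, ht]
  have m1 : (1 : X) ≠ i * j := fun h' => hij (by
    rw [eq_inv_of_mul_eq_one_left h'.symm, inv_eq_of_mul_eq_one_right (hD.omega_sq j hj)])
  have h5 : ({1, i, j, i * j, t} : Finset X).card = 5 := by
    rw [Finset.card_insert_of_notMem, Finset.card_insert_of_notMem, Finset.card_insert_of_notMem,
      Finset.card_pair (Ne.symm h.2.2.2)] <;> simp only [Finset.mem_insert, Finset.mem_singleton, not_or]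
    exacts [⟨fun h' => hi1 (mul_eq_right.mp h'.symm), Ne.symm h.2.2.1⟩,
      ⟨hij, fun h' => hj1 (mul_eq_left.mp h'.symm), Ne.symm h.2.1⟩,
      ⟨hi1.symm, hj1.symm, m1, Ne.symm h.1⟩]
  have h6 := Finset.card_le_card hsub
  rw [h5, ← Nat.subtype_card (p := (· ∈ omega D)) _ (fun w => by simp)] at h6
  have h7 : Nat.card (omega D) ≤ 4 := hS.card_elem hD.omega_normal hD.omega_sq
  omega

theorem AbChar.fix_omega (hD : AbChar D) {φ : MulAut X} (hφ : φ ∈ A) {i : X} (hi : i ∈ omega D)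
    (hi1 : i ≠ 1) (hfix : φ i = i) {t : X} (ht : t ∈ omega D) : φ t = t := by
  by_cases ht1 : t = 1
  · rw [ht1, map_one]
  by_cases hti : i = t
  · rw [← hti, hfix]
  refine hS.fix_of_sq_fix hφ ?_
  rcases hD.omega_cases hS hi ht hi1 ht1 hti (hD.omega_map φ ht) with h | h | h | h
  · exact absurd (φ.injective (h.trans (map_one φ).symm)) ht1
  · exact absurd (φ.injective (h.trans hfix.symm)).symm hti
  · rw [h, h]
  · rw [h, map_mul, hfix, h, ← mul_assoc, hD.omega_sq i hi, one_mul]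

theorem AbChar.fix_all (hD : AbChar D) {φ : MulAut X} (hφ : φ ∈ A)
    (hfix : ∀ t ∈ omega D, φ t = t) : ∀ d ∈ D, φ d = d := by
  suffices h : ∀ (n : ℕ) (d : X), d ∈ D → d ^ (2 ^ n) = 1 → φ d = d by
    intro d hd
    obtain ⟨n, hn⟩ := hS.two d
    exact h n d hd hn
  intro n
  induction n with
  | zero => intro d _ h; rw [pow_zero, pow_one] at h; rw [h, map_one]
  | succ n ih =>
    intro d hd h
    have hsq : φ (d * d) = d * d :=
      ih _ (mul_mem hd hd) (by rw [← pow_two, ← pow_mul, ← pow_succ', h])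
    set t := d⁻¹ * φ d with ht
    have htD : t ∈ D := mul_mem (inv_mem hd) (hD.map_mem φ hd)
    have ht2 : t * t = 1 := by
      have hc := hD.comm (φ d) (hD.map_mem φ hd) d⁻¹ (inv_mem hd)
      calc t * t = d⁻¹ * (φ d * d⁻¹) * φ d := by rw [ht]; group
        _ = d⁻¹ * (d⁻¹ * φ d) * φ d := by rw [hc]
        _ = (d * d)⁻¹ * φ (d * d) := by rw [map_mul]; group
        _ = 1 := by rw [hsq, inv_mul_cancel]
    refine hS.fix_of_sq_fix hφ ?_
    have e : φ d = d * t := by rw [ht, mul_inv_cancel_left]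
    rw [e, map_mul, hfix t (hD.mem_omega.mpr ⟨htD, ht2⟩), e, mul_assoc, ht2, mul_one]

end Cfsg.Agent.Lib.NoSCNThree
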