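import Mathlib
import Cfsg.Agent.Lib.PGroup.Critical
import Cfsg.Agent.Lib.SuzukiTwo.Coset

/-!
Two-groups without normal abelian subgroups of rank three, generated by the displacements of a group
of automorphisms of odd order: the basic facts.
-/

set_option autoImplicit false
set_option linter.unusedSectionVars false

open scoped commutatorElement

namespace Cfsg.Agent.Lib.NoSCNThree

/-- The standing hypotheses. -/
structure Setting (X : Type*) [Group X] (A : Subgroup (MulAut X)) : Prop where
  two : IsPGroup 2 X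
  na : ∃ x y : X, x * y ≠ y * x
  odd : Odd (Nat.card A)
  gen : Subgroup.closure {g : X | ∃ φ ∈ A, ∃ x : X, g = x⁻¹ * φ x} = ⊤
  small : ∀ B : Subgroup X, B.Normal → (∀ a ∈ B, ∀ b ∈ B, a * b = b * a) →
    ∀ E ≤ B, (∀ e ∈ E, e * e = 1) → Nat.card E ≤ 4

variable {X : Type*} [Group X] [Finite X] {A : Subgroup (MulAut X)}

theorem comm_of_sq {Y : Type*} [Group Y] {E : Subgroup Y} (h : ∀ e ∈ E, e * e = 1) :
    ∀ a ∈ E, ∀ b ∈ E, a * b = b * a := fun a ha b hb => by
  have ha' : a⁻¹ = a := inv_eq_of_mul_eq_one_right (h a ha)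
  have hb' : b⁻¹ = b := inv_eq_of_mul_eq_one_right (h b hb)
  calc a * b = (a * b)⁻¹ := (inv_eq_of_mul_eq_one_right (h _ (mul_mem ha hb))).symm
    _ = b * a := by rw [mul_inv_rev, ha', hb']

theorem Setting.card_elem (hS : Setting X A) {E : Subgroup X} (hn : E.Normal)
    (h : ∀ e ∈ E, e * e = 1) : Nat.card E ≤ 4 :=
  hS.small E hn (comm_of_sq h) E le_rfl h

/-- An element of a commutative image fixed by all the automorphisms is trivial. -/
theorem Setting.hom_eq_one (hS : Setting X A) {V : Type*} [CommGroup V] (f : X →* V) {x : X}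
    (hfix : ∀ φ ∈ A, f ((φ : MulAut X) x) = f x) : f x = 1 := by
  classical
  haveI : Finite (MulAut X) := Finite.of_injective _ DFunLike.coe_injective
  haveI : Fintype A := Fintype.ofFinite _
  let N : X →* V :=
    { toFun := fun y => ∏ φ : A, f ((φ : MulAut X) y)
      map_one' := by simp
      map_mul' := fun y z => by simp [Finset.prod_mul_distrib] }
  have hN : ∀ y, N y = 1 := by
    intro y
    have hle : Subgroup.closure {g : X | ∃ φ ∈ A, ∃ z : X, g = z⁻¹ * φ z} ≤ N.ker := by
      rw [Subgroup.closure_le]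
      rintro _ ⟨ψ, hψ, z, rfl⟩
      rw [SetLike.mem_coe, MonoidHom.mem_ker, map_mul, map_inv]
      have : N (ψ z) = N z := by
        show ∏ φ : A, f ((φ : MulAut X) (ψ z)) = ∏ φ : A, f ((φ : MulAut X) z)
        exact Fintype.prod_equiv (Equiv.mulRight (⟨ψ, hψ⟩ : A)) _ _ fun φ => rfl
      rw [this, inv_mul_cancel]
    exact hle (hS.gen.symm ▸ Subgroup.mem_top y)
  have h1 : f x ^ Nat.card A = 1 := by
    rw [Nat.card_eq_fintype_card, ← Finset.card_univ, ← Finset.prod_const, ← hN x]
    exact Finset.prod_congr rfl fun φ _ => (hfix φ φ.2).symm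
  obtain ⟨k, hk⟩ := hS.two x
  have h2 : f x ^ (2 ^ k) = 1 := by rw [← map_pow, hk, map_one]
  have hd := Nat.dvd_gcd (orderOf_dvd_of_pow_eq_one h1) (orderOf_dvd_of_pow_eq_one h2)
  rw [(hS.odd.coprime_two_right.pow_right k).gcd_eq_one] at hd
  exact orderOf_eq_one_iff.mp (Nat.dvd_one.mp hd)

/-- A coset of a subgroup containing the commutators, fixed by all the automorphisms, is trivial. -/
theorem Setting.mem_of_fixed (hS : Setting X A) {N : Subgroup X} (hN : ∀ x y : X, ⁅x, y⁆ ∈ N) {x : X}
    (hfix : ∀ φ ∈ A, x⁻¹ * (φ : MulAut X) x ∈ N) : x ∈ N := by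
  haveI : N.Normal := ⟨fun n hn g => by
    rw [show g * n * g⁻¹ = ⁅g, n⁆ * n by rw [commutatorElement_def]; group]
    exact mul_mem (hN g n) hn⟩
  letI : CommGroup (X ⧸ N) := { (inferInstance : Group (X ⧸ N)) with
    mul_comm := fun a b => by
      obtain ⟨a, rfl⟩ := QuotientGroup.mk'_surjective N a
      obtain ⟨b, rfl⟩ := QuotientGroup.mk'_surjective N b
      rw [← commutatorElement_eq_one_iff_mul_comm, ← map_commutatorElement]
      exact (QuotientGroup.eq_one_iff _).mpr (hN a b) }
  rw [← QuotientGroup.eq_one_iff]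
  exact hS.hom_eq_one (QuotientGroup.mk' N) fun φ hφ => (QuotientGroup.eq.mpr (hfix φ hφ)).symm

/-- Adjoining an involution that is central modulo an elementary abelian normal subgroup. -/
theorem Setting.card_extend (hS : Setting X A) {N : Subgroup X} (hNe : ∀ n ∈ N, n * n = 1)
    {x : X} (hx : x * x = 1) (hxN : ∀ n ∈ N, x * n = n * x) (hn : N.Normal)
    (hc : ∀ g, ⁅x, g⁆ ∈ N) (hxmem : x ∉ N) : 2 * Nat.card N ≤ 4 := by
  have hxi : x⁻¹ = x := inv_eq_of_mul_eq_one_right hx
  let E : Subgroup X :=
    { carrier := {y | y ∈ N ∨ x * y ∈ N}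
      one_mem' := Or.inl N.one_mem
      mul_mem' := fun {y z} hy hz => by
        rcases hy with hy | hy <;> rcases hz with hz | hz
        · exact Or.inl (mul_mem hy hz)
        · refine Or.inr ?_
          rw [← mul_assoc, hxN y hy, mul_assoc]; exact mul_mem hy hz
        · exact Or.inr (by rw [← mul_assoc]; exact mul_mem hy hz)
        · refine Or.inl ?_
          have e : (x * y) * (x * z) = y * z := by
            calc x * y * (x * z) = x * ((x * (x * y)) * x) * z := by
                  rw [← mul_assoc x x y, hx, one_mul]; group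
              _ = x * (x * (x * y) * x) * z := rfl
              _ = x * (x * (x * (x * y))) * z := by rw [mul_assoc x (x * y) x, hxN _ hy]
              _ = y * z := by simp [← mul_assoc, hx]
          rw [← e]; exact mul_mem hy hz
      inv_mem' := fun {y} hy => by
        rcases hy with hy | hy
        · exact Or.inl (inv_mem hy)
        · refine Or.inr ?_
          have e : x * y⁻¹ = x * (x * y)⁻¹ * x := by rw [mul_inv_rev, hxi]; simp [mul_assoc, hx]
          rw [e, hxN _ (inv_mem hy), mul_assoc, hx, mul_one]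
          exact inv_mem hy }
  have hEe : ∀ y ∈ E, y * y = 1 := by
    rintro y (hy | hy)
    · exact hNe y hy
    · have e : y = x * (x * y) := by rw [← mul_assoc, hx, one_mul]
      calc y * y = x * (x * y) * (x * (x * y)) := by rw [← e]
        _ = x * ((x * y) * x) * (x * y) := by group
        _ = x * (x * (x * y)) * (x * y) := by rw [hxN _ hy]
        _ = 1 := by rw [← mul_assoc x x (x * y), hx, one_mul, hNe _ hy]
  have hEn : E.Normal := ⟨fun y hy g => by
    rcases hy with hy | hy
    · exact Or.inl (hn.conj_mem y hy g)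
    · refine Or.inr ?_
      rw [show x * (g * y * g⁻¹) = ⁅x, g⁆ * (g * (x * y) * g⁻¹) by rw [commutatorElement_def]; group]
      exact mul_mem (hc g) (hn.conj_mem _ hy g)⟩
  have hlt : N < E := lt_of_le_of_ne (fun y hy => Or.inl hy) fun h => hxmem (by
    rw [h]; exact Or.inr (by rw [hx]; exact one_mem N))
  refine le_trans ?_ (hS.card_elem hEn hEe)
  obtain ⟨c, hc⟩ := Subgroup.card_dvd_of_le hlt.le
  rw [hc, mul_comm]
  refine Nat.mul_le_mul_left _ ?_
  by_contra hc2
  have hpos : 0 < Nat.card E := Nat.card_pos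
  exact hlt.ne (Subgroup.eq_of_le_of_card_ge hlt.le (by
    rw [hc]; rcases (by omega : c = 0 ∨ c = 1) with rfl | rfl <;> simp_all))

end Cfsg.Agent.Lib.NoSCNThree
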