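import Cfsg.Agent.Lib.NoSCNThree.Basic
import Cfsg.Agent.Lib.PUnique.Basic
import Cfsg.Agent.Lib.PGroup.Frattini
import Cfsg.Prelude.Def_Transfer

/-!
Classification when the squares lie in a central elementary abelian subgroup.
-/

set_option autoImplicit false
set_option linter.unusedSectionVars false

open scoped commutatorElement

namespace Cfsg.Agent.Lib.NoSCNThree

variable {X : Type*} [Group X] [Finite X] {A : Subgroup (MulAut X)}

/-- The consequences of the squares being central of order at most two. -/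
structure Flat (X : Type*) [Group X] (Φ : Subgroup X) : Prop where
  elem : ∀ z ∈ Φ, z * z = 1
  central : ∀ z ∈ Φ, ∀ g : X, g * z = z * g
  sq : ∀ x : X, x * x ∈ Φ
  comm : ∀ x y : X, ⁅x, y⁆ ∈ Φ
  least : ∀ N ≤ Φ, (∀ x : X, x * x ∈ N) → Φ ≤ N

theorem flat_frattini (hS : Setting X A) (Z : Subgroup X) (hZc : Z ≤ Subgroup.center X)
    (hZe : ∀ z ∈ Z, z * z = 1) (hsq : ∀ x : X, x * x ∈ Z) : Flat X (frattini X) := by
  haveI : Fact (Nat.Prime 2) := ⟨Nat.prime_two⟩
  have hle : ∀ N : Subgroup X, N ≤ Subgroup.center X → (∀ x : X, x * x ∈ N) → frattini X ≤ N := by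
    intro N hN h
    haveI : N.Normal := ⟨fun n hn g => by
      rwa [Subgroup.mem_center_iff.mp (hN hn) g, mul_inv_cancel_right]⟩
    refine PFrattini.frattini_le (p := 2) ?_ fun x => by rw [pow_two]; exact h x
    rw [commutator_def, Subgroup.commutator_le]
    intro a _ b _
    have key : ∀ u v : X, ⁅u⁻¹, v⁆ ∈ N := fun u v => by
      have e : ⁅u⁻¹, v⁆ = (u * u)⁻¹ * (u * v * (u * v)) * (v * v)⁻¹ := by
        rw [commutatorElement_def]; group
      rw [e]; exact mul_mem (mul_mem (inv_mem (h u)) (h _)) (inv_mem (h v))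
    simpa using key a⁻¹ b
  have hΦZ : frattini X ≤ Z := hle Z hZc hsq
  exact ⟨fun z hz => hZe z (hΦZ hz), fun z hz g => Subgroup.mem_center_iff.mp (hZc (hΦZ hz)) g,
    fun x => by rw [← pow_two]; exact PFrattini.pow_mem_frattini hS.two x,
    fun x y => PFrattini.commutator_le_frattini (p := 2) hS.two
      (Subgroup.commutator_mem_commutator (Subgroup.mem_top x) (Subgroup.mem_top y)),
    fun N hN h => hle N (hN.trans (hΦZ.trans hZc)) h⟩

variable {Φ : Subgroup X}

theorem Flat.normal (hF : Flat X Φ) : Φ.Normal :=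
  ⟨fun z hz g => by rwa [hF.central z hz g, mul_inv_cancel_right]⟩

theorem Flat.sq_mul (hF : Flat X Φ) (x y : X) :
    x * y * (x * y) = x * x * (y * y) * ⁅x⁻¹, y⁆ := by
  rw [mul_assoc (x * x), hF.central _ (hF.comm _ _) (y * y), ← mul_assoc, commutatorElement_def]
  group

theorem Flat.sq_mul_mem (hF : Flat X Φ) (x : X) {d : X} (hd : d ∈ Φ) : x * d * (x * d) = x * x := by
  calc x * d * (x * d) = x * (d * x) * d := by group
    _ = x * (x * d) * d := by rw [hF.central d hd x]
    _ = x * x * (d * d) := by group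
    _ = x * x := by rw [hF.elem d hd, mul_one]

theorem Flat.commute_of_closure (hF : Flat X Φ) {a b : X} (hab : a * b = b * a)
    (hgen : ∀ x : X, x ∈ Φ ∨ a⁻¹ * x ∈ Φ ∨ b⁻¹ * x ∈ Φ ∨ (a * b)⁻¹ * x ∈ Φ) :
    ∀ x y : X, x * y = y * x := by
  have h1 : ∀ u : X, a * u = u * a → b * u = u * b → ∀ x, x * u = u * x := by
    intro u hua hub x
    have key : ∀ v : X, v * u = u * v → v⁻¹ * x ∈ Φ → x * u = u * x := fun v hv hvx => by
      calc x * u = v * ((v⁻¹ * x) * u) := by group
        _ = v * (u * (v⁻¹ * x)) := by rw [hF.central _ hvx u]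
        _ = v * u * v⁻¹ * x := by group
        _ = u * x := by rw [hv]; group
    rcases hgen x with h | h | h | h
    · exact (hF.central x h u).symm
    · exact key a hua h
    · exact key b hub h
    · exact key (a * b) (by rw [mul_assoc, hub, ← mul_assoc, hua, mul_assoc]) h
  intro x y
  exact h1 y ((h1 a rfl hab.symm y).symm) ((h1 b hab rfl y).symm) x

theorem zmod_two_add : (0 : ZMod 2) = 1 + 1 := by decide

variable (hS : Setting X A)

include hS

theorem card_le_four (hF : Flat X Φ) : Nat.card Φ ≤ 4 := hS.card_elem hF.normal hF.elem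

theorem Flat.ne_bot (hF : Flat X Φ) : Φ ≠ ⊥ := by
  intro h
  obtain ⟨a, b, hab⟩ := hS.na
  refine hab (commutatorElement_eq_one_iff_mul_comm.mp ?_)
  have := hF.comm a b
  rwa [h, Subgroup.mem_bot] at this

theorem Flat.card_cases (hF : Flat X Φ) : Nat.card Φ = 2 ∨ Nat.card Φ = 4 := by
  haveI : Fact (Nat.Prime 2) := ⟨Nat.prime_two⟩
  obtain ⟨j, hj⟩ := IsPGroup.iff_card.mp (hS.two.to_subgroup Φ)
  have h4 := card_le_four hS hF
  have h1 : Nat.card Φ ≠ 1 := fun h => hF.ne_bot hS (Subgroup.card_eq_one.mp h)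
  rw [hj] at h4 h1 ⊢
  have : j < 3 := (Nat.pow_lt_pow_iff_right (by norm_num : 1 < 2)).mp (by norm_num; omega)
  interval_cases j <;> simp_all

theorem Flat.mem_of_fixed (hF : Flat X Φ) {N : Subgroup X} (hN : Φ ≤ N) {x : X}
    (hfix : ∀ φ ∈ A, x⁻¹ * (φ : MulAut X) x ∈ N) : x ∈ N :=
  hS.mem_of_fixed (fun a b => hN (hF.comm a b)) hfix

/-- With four central squares there are no involutions outside. -/
theorem Flat.mem_of_sq (hF : Flat X Φ) (h4 : Nat.card Φ = 4) {x : X} (hx : x * x = 1) : x ∈ Φ := by
  by_contra hxΦ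
  have := hS.card_extend hF.elem hx (fun n hn => hF.central n hn x) hF.normal (hF.comm x) hxΦ
  omega

theorem Flat.card_quotient_ne (hF : Flat X Φ) : 4 ≤ Φ.index := by
  haveI : Fact (Nat.Prime 2) := ⟨Nat.prime_two⟩
  haveI := hF.normal
  obtain ⟨j, hj⟩ := hS.two.index Φ
  by_contra hlt
  have hj1 : j ≤ 1 := by
    by_contra h
    have : 2 ^ 2 ≤ 2 ^ j := Nat.pow_le_pow_right (by norm_num) (by omega)
    omega
  obtain ⟨a, b, hab⟩ := hS.na
  refine hab ?_
  interval_cases j
  · have htop : Φ = ⊤ := Subgroup.index_eq_one.mp hj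
    exact hF.central b (htop ▸ Subgroup.mem_top b) a
  · obtain ⟨c, hc⟩ := Subgroup.index_eq_two_iff.mp (show Φ.index = 2 from hj)
    refine hF.commute_of_closure (a := c⁻¹) (b := c⁻¹) rfl (fun x => ?_) a b
    by_cases hx : x ∈ Φ
    · exact Or.inl hx
    · refine Or.inr (Or.inl ?_)
      have h1 : x * c ∈ Φ := (hc x).elim (fun h => h.1) (fun h => absurd h.1 hx)
      rw [inv_inv]
      exact hF.normal.mem_comm h1

/-- In a small quotient the automorphisms permute the nontrivial cosets transitively. -/
theorem Flat.trans_small (hF : Flat X Φ) [Φ.Characteristic] (hsmall : Φ.index ≤ 8) {x y : X}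
    (hx : x ∉ Φ) (hy : y ∉ Φ) : ∃ φ ∈ A, y⁻¹ * (φ : MulAut X) x ∈ Φ := by
  classical
  haveI : Fact (Nat.Prime 2) := ⟨Nat.prime_two⟩
  haveI := hF.normal
  haveI : Finite (MulAut X) := Finite.of_injective _ DFunLike.coe_injective
  letI act : MulAction A (X ⧸ Φ) :=
    { smul := fun φ => QuotientGroup.map Φ Φ (φ : MulAut X).toMonoidHom
        (Subgroup.characteristic_iff_le_comap.mp inferInstance (φ : MulAut X))
      one_smul := fun v => by
        induction v using QuotientGroup.induction_on with
        | _ v => rfl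
      mul_smul := fun φ ψ v => by
        induction v using QuotientGroup.induction_on with
        | _ v => rfl }
  have hsmul : ∀ (φ : A) (v : X), φ • (v : X ⧸ Φ) = (((φ : MulAut X) v : X) : X ⧸ Φ) := fun φ v => rfl
  have horb : ∀ v : X, v ∉ Φ → (MulAction.orbit A (v : X ⧸ Φ)).ncard ≥ 3 ∧
      Odd (MulAction.orbit A (v : X ⧸ Φ)).ncard ∧
      (1 : X ⧸ Φ) ∉ MulAction.orbit A (v : X ⧸ Φ) := by
    intro v hv
    have hodd : Odd (MulAction.orbit A (v : X ⧸ Φ)).ncard := by
      rw [← MulAction.index_stabilizer]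
      exact hS.odd.of_dvd_nat (Subgroup.index_dvd_card _)
    refine ⟨?_, hodd, ?_⟩
    · by_contra hlt
      obtain ⟨w, hw⟩ := Set.ncard_eq_one.mp
        (show (MulAction.orbit A (v : X ⧸ Φ)).ncard = 1 by obtain ⟨k, hk⟩ := hodd; omega)
      have hall : ∀ φ : A, φ • (v : X ⧸ Φ) = (v : X ⧸ Φ) := fun φ => by
        have h1 : φ • (v : X ⧸ Φ) ∈ MulAction.orbit A (v : X ⧸ Φ) := MulAction.mem_orbit _ φ
        have h2 := MulAction.mem_orbit_self (M := A) (v : X ⧸ Φ)
        rw [hw, Set.mem_singleton_iff] at h1 h2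
        rw [h1, ← h2]
      exact hv (hF.mem_of_fixed hS le_rfl fun φ hφ =>
        QuotientGroup.eq.mp ((hsmul ⟨φ, hφ⟩ v).symm.trans (hall ⟨φ, hφ⟩)).symm)
    · rintro ⟨φ, hφ⟩
      have h1 : ((φ : MulAut X) v : X) ∈ Φ := (QuotientGroup.eq_one_iff _).mp ((hsmul φ v).symm.trans hφ)
      have h2 := Subgroup.characteristic_iff_le_comap.mp (inferInstance : Φ.Characteristic)
        ((φ : MulAut X)⁻¹) h1
      rw [Subgroup.mem_comap] at h2
      exact hv (by simpa using h2)
  suffices hmem : (y : X ⧸ Φ) ∈ MulAction.orbit A (x : X ⧸ Φ) by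
    obtain ⟨φ, hφ⟩ := hmem
    exact ⟨φ, φ.2, QuotientGroup.eq.mp ((hsmul φ x).symm.trans hφ).symm⟩
  by_contra hmem
  obtain ⟨a3, aodd, a1⟩ := horb x hx
  obtain ⟨b3, bodd, b1⟩ := horb y hy
  set O := MulAction.orbit A (x : X ⧸ Φ)
  set O' := MulAction.orbit A (y : X ⧸ Φ)
  have hdisj : Disjoint O O' := Set.disjoint_left.mpr fun w hw hw' => hmem (by
    show (y : X ⧸ Φ) ∈ MulAction.orbit A (x : X ⧸ Φ)
    rw [← MulAction.orbit_eq_iff.mpr hw, MulAction.orbit_eq_iff.mpr hw']
    exact MulAction.mem_orbit_self _)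
  have hcard : Nat.card (X ⧸ Φ) ≤ 8 := hsmall
  have hpow : ∃ j, Nat.card (X ⧸ Φ) = 2 ^ j := hS.two.index Φ
  have hU : (O ∪ O').ncard = O.ncard + O'.ncard := Set.ncard_union_eq hdisj
  have hins : (insert 1 (O ∪ O')).ncard = O.ncard + O'.ncard + 1 := by
    rw [Set.ncard_insert_of_notMem (by simp [a1, b1]), hU]
  have hle : (insert 1 (O ∪ O')).ncard ≤ Nat.card (X ⧸ Φ) := Set.ncard_le_card _
  have heven : 2 ∣ Nat.card (X ⧸ Φ) := by
    obtain ⟨j, hj⟩ := hpow
    have : j ≠ 0 := fun h => by rw [hj, h, pow_zero] at hle; omega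
    rw [hj]; exact dvd_pow_self 2 this
  obtain ⟨w, hw⟩ : ∃ w, w ∉ insert 1 (O ∪ O') := by
    by_contra hall
    push Not at hall
    rw [Set.eq_univ_of_forall hall, Set.ncard_univ] at hins
    obtain ⟨i, hi⟩ := aodd; obtain ⟨j, hj⟩ := bodd
    omega
  simp only [Set.mem_insert_iff, Set.mem_union, not_or] at hw
  obtain ⟨v, rfl⟩ := QuotientGroup.mk_surjective w
  obtain ⟨c3, -, c1⟩ := horb v (fun h => hw.1 ((QuotientGroup.eq_one_iff v).mpr h))
  have hd2 : Disjoint (MulAction.orbit A (v : X ⧸ Φ)) (O ∪ O') := by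
    refine Set.disjoint_left.mpr fun u hu hu' => ?_
    rcases hu' with hu' | hu'
    · refine hw.2.1 ?_
      show (v : X ⧸ Φ) ∈ MulAction.orbit A (x : X ⧸ Φ)
      rw [← MulAction.orbit_eq_iff.mpr hu', MulAction.orbit_eq_iff.mpr hu]
      exact MulAction.mem_orbit_self _
    · refine hw.2.2 ?_
      show (v : X ⧸ Φ) ∈ MulAction.orbit A (y : X ⧸ Φ)
      rw [← MulAction.orbit_eq_iff.mpr hu', MulAction.orbit_eq_iff.mpr hu]
      exact MulAction.mem_orbit_self _
  have h3 : (MulAction.orbit A (v : X ⧸ Φ) ∪ (O ∪ O')).ncard ≤ Nat.card (X ⧸ Φ) := Set.ncard_le_card _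
  rw [Set.ncard_union_eq hd2, hU] at h3
  omega

theorem extraspecial_or_quaternion (hF : Flat X Φ) [Φ.Characteristic] (hΦ : Φ = frattini X)
    (h2 : Nat.card Φ = 2) :
    Nonempty (X ≃* QuaternionGroup 2) ∨
      (Cfsg.IsExtraspecial 2 X ∧ Nat.card X = 32 ∧ Nat.card {x : X // orderOf x = 2} = 11) := by
  classical
  haveI : Fact (Nat.Prime 2) := ⟨Nat.prime_two⟩
  haveI : Fintype X := Fintype.ofFinite X
  haveI := hF.normal
  obtain ⟨z, hzΦ, hz1⟩ : ∃ z ∈ Φ, z ≠ 1 := by
    obtain ⟨a, ha⟩ := Φ.ne_bot_iff_exists_ne_one.mp (hF.ne_bot hS)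
    exact ⟨(a : X), a.2, fun h => ha (Subtype.ext h)⟩
  have hmem : ∀ u : X, u ∈ Φ → u = 1 ∨ u = z := by
    intro u hu
    obtain ⟨a, b, hab, huniv⟩ := Nat.card_eq_two_iff.mp h2
    have hcases : ∀ w : Φ, w = a ∨ w = b := fun w => by
      have : w ∈ ({a, b} : Set Φ) := huniv ▸ Set.mem_univ w
      simpa using this
    rcases hcases ⟨u, hu⟩ with h | h <;> rcases hcases 1 with h' | h' <;>
      rcases hcases ⟨z, hzΦ⟩ with h'' | h''
    all_goals first
      | exact Or.inl (congrArg Subtype.val (h.trans h'.symm))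
      | exact Or.inr (congrArg Subtype.val (h.trans h''.symm))
      | exact absurd (congrArg Subtype.val (h''.trans h'.symm)) hz1
  -- the centre
  have hcen : Subgroup.center X = Φ := by
    refine le_antisymm (fun c hc => ?_) fun u hu => Subgroup.mem_center_iff.mpr (hF.central u hu)
    let E : Subgroup X :=
      { carrier := {u | u ∈ Subgroup.center X ∧ u * u = 1}
        one_mem' := ⟨one_mem _, one_mul 1⟩
        mul_mem' := fun {u v} hu hv => ⟨mul_mem hu.1 hv.1, by
          calc u * v * (u * v) = u * (v * u) * v := by group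
            _ = u * (u * v) * v := by rw [Subgroup.mem_center_iff.mp hu.1 v]
            _ = u * u * (v * v) := by group
            _ = 1 := by rw [hu.2, hv.2, one_mul]⟩
        inv_mem' := fun {u} hu => ⟨inv_mem hu.1, by rw [← mul_inv_rev, hu.2, inv_one]⟩ }
    have hEn : E.Normal := ⟨fun u hu g => by
      rwa [Subgroup.mem_center_iff.mp hu.1 g, mul_inv_cancel_right]⟩
    have hEinv : ∀ (φ : MulAut X) {u}, u ∈ E → φ u ∈ E := fun φ u hu =>
      ⟨Subgroup.mem_center_iff.mpr fun g => by
        have := congrArg φ (Subgroup.mem_center_iff.mp hu.1 (φ⁻¹ g))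
        simpa using this, by rw [← map_mul, hu.2, map_one]⟩
    have hE4 := hS.card_elem hEn fun u hu => hu.2
    have hΦE : Φ ≤ E := fun u hu => ⟨Subgroup.mem_center_iff.mpr (hF.central u hu), hF.elem u hu⟩
    -- `E` has at most one coset besides `Φ`
    have hEtwo : ∀ u ∈ E, ∀ v ∈ E, u ∉ Φ → v ∉ Φ → u⁻¹ * v ∈ Φ := by
      intro u hu v hv hu' hv'
      by_contra hne
      have hsub : ({1, z, u, u * z, v} : Finset X) ⊆ Finset.univ.filter (· ∈ E) := by
        intro w hw
        simp only [Finset.mem_insert, Finset.mem_singleton] at hw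
        simp only [Finset.mem_filter, Finset.mem_univ, true_and]
        rcases hw with rfl | rfl | rfl | rfl | rfl
        exacts [one_mem E, hΦE hzΦ, hu, mul_mem hu (hΦE hzΦ), hv]
      have h5 : ({1, z, u, u * z, v} : Finset X).card = 5 := by
        have n1 : u ≠ 1 := fun h => hu' (h ▸ one_mem Φ)
        have n2 : u ≠ z := fun h => hu' (h ▸ hzΦ)
        have n3 : u * z ≠ 1 := fun h => hu' (by rw [eq_inv_of_mul_eq_one_left h]; exact inv_mem hzΦ)
        have n4 : u * z ≠ z := fun h => n1 (mul_eq_right.mp h)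
        have n5 : v ≠ 1 := fun h => hv' (h ▸ one_mem Φ)
        have n6 : v ≠ z := fun h => hv' (h ▸ hzΦ)
        have n7 : v ≠ u := fun h => hne (by rw [h, inv_mul_cancel]; exact one_mem Φ)
        have n8 : v ≠ u * z := fun h => hne (by rw [h, inv_mul_cancel_left]; exact hzΦ)
        have n9 : u * z ≠ u := fun h => hz1 (mul_eq_left.mp h)
        simp [hz1.symm, n1.symm, n2.symm, n3.symm, n4.symm, n5.symm, n6.symm, n7.symm, n8.symm, n9.symm]
      have h6 := Finset.card_le_card hsub
      rw [h5, ← Nat.subtype_card (p := (· ∈ E)) _ (fun w => by simp)] at h6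
      exact absurd (h6.trans hE4) (by norm_num)
    have hEΦ : ∀ u ∈ E, u ∈ Φ := fun u hu => by
      by_contra hu'
      refine hu' (hF.mem_of_fixed hS le_rfl fun φ _ => hEtwo u hu _ (hEinv φ hu) hu' fun h => hu' ?_)
      have h1 := Subgroup.characteristic_iff_le_comap.mp (inferInstance : Φ.Characteristic) φ⁻¹ h
      rw [Subgroup.mem_comap] at h1
      simpa using h1
    by_cases hcc : c * c = 1
    · exact hEΦ c ⟨hc, hcc⟩
    refine hF.mem_of_fixed hS le_rfl fun φ _ => hEΦ _ ?_
    have hcφ : (φ : MulAut X) c ∈ Subgroup.center X := Subgroup.mem_center_iff.mpr fun g => by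
      have := congrArg φ (Subgroup.mem_center_iff.mp hc (φ⁻¹ g))
      simpa using this
    refine ⟨mul_mem (inv_mem hc) hcφ, ?_⟩
    have hcz : c * c = z := (hmem _ (hF.sq c)).resolve_left hcc
    have hφz : φ z = z := (hmem _ (by
      have h1 := Subgroup.characteristic_iff_le_comap.mp (inferInstance : Φ.Characteristic) φ hzΦ
      exact h1)).resolve_left (fun h => hz1 (φ.injective (h.trans (map_one φ).symm)))
    have hφc : φ c * φ c = z := by rw [← map_mul, hcz, hφz]
    calc c⁻¹ * φ c * (c⁻¹ * φ c) = c⁻¹ * (φ c * c⁻¹) * φ c := by group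
      _ = c⁻¹ * (c⁻¹ * φ c) * φ c := by rw [Subgroup.mem_center_iff.mp (inv_mem hc) (φ c)]
      _ = (c * c)⁻¹ * (φ c * φ c) := by group
      _ = 1 := by rw [hcz, hφc, inv_mul_cancel]
  have hex : Cfsg.IsExtraspecial 2 X := by
    refine ⟨⟨hS.two, hΦ ▸ hcen.symm, ?_⟩, by rw [hcen, h2]⟩
    rw [hcen]
    refine le_antisymm ?_ fun u hu => ?_
    · rw [commutator_def, Subgroup.commutator_le]; exact fun a _ b _ => hF.comm a b
    · rcases hmem u hu with rfl | rfl
      · exact one_mem _
      · obtain ⟨a, b, hab⟩ := hS.na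
        rw [← (hmem _ (hF.comm a b)).resolve_left fun h => hab (commutatorElement_eq_one_iff_mul_comm.mp h)]
        exact Subgroup.commutator_mem_commutator (Subgroup.mem_top a) (Subgroup.mem_top b)
  have hXcard : Nat.card X = 2 * Φ.index := by rw [← h2, Subgroup.card_mul_index]
  have h4 := hF.card_quotient_ne hS
  obtain ⟨j, hj⟩ := hS.two.index Φ
  by_cases haniso : ∀ x : X, x * x = 1 → x ∈ Φ
  · -- a unique involution
    left
    have hle : Φ.index ≤ 4 := by
      letI : CommGroup (X ⧸ Φ) := { (inferInstance : Group (X ⧸ Φ)) with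
        mul_comm := fun a b => by
          obtain ⟨a, rfl⟩ := QuotientGroup.mk'_surjective Φ a
          obtain ⟨b, rfl⟩ := QuotientGroup.mk'_surjective Φ b
          rw [← commutatorElement_eq_one_iff_mul_comm, ← map_commutatorElement]
          exact (QuotientGroup.eq_one_iff _).mpr (hF.comm a b) }
      let f : X → ZMod 2 := fun u => if u = 1 then 0 else 1
      have hzmul : z * z = 1 := hF.elem z hzΦ
      have fadd : ∀ u ∈ Φ, ∀ v ∈ Φ, f (u * v) = f u + f v := by
        intro u hu v hv
        rcases hmem u hu with rfl | rfl <;> rcases hmem v hv with rfl | rfl <;>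
          simp [f, hz1, hzmul] <;> exact zmod_two_add
      let q : Additive (X ⧸ Φ) → ZMod 2 := fun v => f (Quotient.out (Additive.toMul v) * Quotient.out (Additive.toMul v))
      have hq : ∀ x : X, q (Additive.ofMul (x : X ⧸ Φ)) = f (x * x) := fun x => by
        show f (Quotient.out (x : X ⧸ Φ) * Quotient.out (x : X ⧸ Φ)) = _
        obtain ⟨d, hd⟩ : ∃ d ∈ Φ, Quotient.out (x : X ⧸ Φ) = x * d :=
          ⟨x⁻¹ * Quotient.out (x : X ⧸ Φ), QuotientGroup.eq.mp (QuotientGroup.out_eq' _).symm, by group⟩
        rw [hd.2, hF.sq_mul_mem x hd.1]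
      have hb : ∀ a b : X, q (Additive.ofMul (a : X ⧸ Φ) + Additive.ofMul (b : X ⧸ Φ)) =
          q (Additive.ofMul (a : X ⧸ Φ)) + q (Additive.ofMul (b : X ⧸ Φ)) + f ⁅a⁻¹, b⁆ := fun a b => by
        rw [← ofMul_mul, ← QuotientGroup.mk_mul, hq, hq, hq, hF.sq_mul,
          fadd _ (mul_mem (hF.sq a) (hF.sq b)) _ (hF.comm _ _), fadd _ (hF.sq a) _ (hF.sq b)]
      have hl : ∀ a a' b : X, ⁅(a * a')⁻¹, b⁆ = ⁅a⁻¹, b⁆ * ⁅a'⁻¹, b⁆ := fun a a' b => by
        rw [mul_inv_rev, show ⁅a'⁻¹ * a⁻¹, b⁆ = a'⁻¹ * ⁅a⁻¹, b⁆ * a' * ⁅a'⁻¹, b⁆ by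
          simp only [commutatorElement_def]; group, hF.central _ (hF.comm _ _) a'⁻¹,
          inv_mul_cancel_right]
      have hr : ∀ a b b' : X, ⁅a⁻¹, b * b'⁆ = ⁅a⁻¹, b⁆ * ⁅a⁻¹, b'⁆ := fun a b b' => by
        rw [show ⁅a⁻¹, b * b'⁆ = ⁅a⁻¹, b⁆ * (b * ⁅a⁻¹, b'⁆ * b⁻¹) by
          simp only [commutatorElement_def]; group, hF.central _ (hF.comm _ _) b, mul_inv_cancel_right]
      let Bf : Additive (X ⧸ Φ) → Additive (X ⧸ Φ) → ZMod 2 := fun u v => q (u + v) - q u - q v
      have hBf : ∀ a b : X, Bf (Additive.ofMul (a : X ⧸ Φ)) (Additive.ofMul (b : X ⧸ Φ)) = f ⁅a⁻¹, b⁆ :=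
        fun a b => by
          show q (_ + _) - q _ - q _ = _
          rw [hb]; ring
      have hBl : ∀ u u' v, Bf (u + u') v = Bf u v + Bf u' v := by
        intro u u' v
        obtain ⟨a, rfl⟩ := QuotientGroup.mk_surjective (Additive.toMul u)
        obtain ⟨a', rfl⟩ := QuotientGroup.mk_surjective (Additive.toMul u')
        obtain ⟨b, rfl⟩ := QuotientGroup.mk_surjective (Additive.toMul v)
        show Bf (Additive.ofMul ((a * a' : X) : X ⧸ Φ)) (Additive.ofMul (b : X ⧸ Φ)) = _
        rw [hBf, hl, fadd _ (hF.comm _ _) _ (hF.comm _ _), ← hBf, ← hBf]; rfl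
      let B : Additive (X ⧸ Φ) →+ Additive (X ⧸ Φ) →+ ZMod 2 := AddMonoidHom.mk'
        (fun u => AddMonoidHom.mk' (Bf u) fun v v' => by
          obtain ⟨a, rfl⟩ := QuotientGroup.mk_surjective (Additive.toMul u)
          obtain ⟨b, rfl⟩ := QuotientGroup.mk_surjective (Additive.toMul v)
          obtain ⟨b', rfl⟩ := QuotientGroup.mk_surjective (Additive.toMul v')
          show Bf (Additive.ofMul (a : X ⧸ Φ)) (Additive.ofMul ((b * b' : X) : X ⧸ Φ)) = _
          rw [hBf, hr, fadd _ (hF.comm _ _) _ (hF.comm _ _), ← hBf, ← hBf]; rfl)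
        fun u u' => AddMonoidHom.ext fun v => hBl u u' v
      have := SuzukiTwo.card_le_sq_of_anisotropic (X := Additive (X ⧸ Φ)) (W := ZMod 2)
        (fun u => by
          obtain ⟨a, rfl⟩ := QuotientGroup.mk_surjective (Additive.toMul u)
          show Additive.ofMul ((a * a : X) : X ⧸ Φ) = 0
          rw [(QuotientGroup.eq_one_iff _).mpr (hF.sq a)]; rfl)
        CharTwo.add_self_eq_zero q
        (by rw [show (0 : Additive (X ⧸ Φ)) = Additive.ofMul ((1 : X) : X ⧸ Φ) from rfl, hq]; simp [f])
        B (fun u v => by show q (u + v) = q u + q v + (q (u + v) - q u - q v); ring)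
        (fun u hu => by
          obtain ⟨a, ha⟩ := QuotientGroup.mk_surjective (Additive.toMul u)
          rw [show u = Additive.ofMul (a : X ⧸ Φ) by rw [ha]; rfl] at hu ⊢
          rw [hq] at hu
          have h1 : a * a = 1 := by
            by_contra h; simp [f, h] at hu
          rw [(QuotientGroup.eq_one_iff _).mpr (haniso a h1)]; rfl)
      rw [Nat.card_zmod] at this
      exact this
    have hX8 : Nat.card X = 8 := by omega
    obtain hcy | ⟨-, n, ⟨e⟩⟩ := PUnique.isCyclic_or_quaternion hS.two fun H K hH hK => by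
      have key : ∀ H : Subgroup X, Nat.card H = 2 → H = Φ := fun H hH => by
        refine Subgroup.eq_of_le_of_card_ge (fun u hu => haniso u ?_) (by rw [hH, h2])
        have h1 : (⟨u, hu⟩ : H) ^ Nat.card H = 1 := pow_card_eq_one'
        rw [hH, pow_two] at h1
        exact congrArg Subtype.val h1
      rw [key H hH, key K hK]
    · obtain ⟨a, b, hab⟩ := hS.na
      obtain ⟨g, hg⟩ := hcy.exists_generator
      obtain ⟨i, rfl⟩ := hg a
      obtain ⟨k, rfl⟩ := hg b
      exact absurd (zpow_mul_comm g i k) hab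
    · haveI : NeZero (2 ^ n) := ⟨pow_ne_zero _ two_ne_zero⟩
      have hcard := Nat.card_congr e.toEquiv
      rw [hX8, Nat.card_eq_fintype_card, QuaternionGroup.card] at hcard
      have hn : 2 ^ n = 2 := by omega
      obtain rfl : n = 1 := Nat.pow_right_injective le_rfl (hn.trans (pow_one 2).symm)
      exact ⟨e⟩
  · -- an involution outside
    right
    push Not at haniso
    obtain ⟨x, hx, hxΦ⟩ := haniso
    have hxcen : ¬ ∀ g, g * x = x * g := fun h => hxΦ (by
      rw [← hcen]; exact Subgroup.mem_center_iff.mpr h)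
    have hxinv : x⁻¹ = x := inv_eq_of_mul_eq_one_right hx
    set C := Subgroup.centralizer ({x} : Set X) with hCdef
    have hCiff : ∀ g, g ∈ C ↔ g * x = x * g := fun g => by
      rw [hCdef, Subgroup.mem_centralizer_singleton_iff]
    have hC2 : C.index = 2 := by
      rw [Subgroup.index_eq_two_iff]
      push Not at hxcen
      obtain ⟨g0, hg0⟩ := hxcen
      have hzc : ∀ g, g * x ≠ x * g → g * x = z * (x * g) := fun g hg => by
        have h1 := (hmem _ (hF.comm g x)).resolve_left
          fun h => hg (commutatorElement_eq_one_iff_mul_comm.mp h)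
        rw [← h1, commutatorElement_def]; group
      refine ⟨g0, fun g => ?_⟩
      by_cases hg : g ∈ C
      · refine Or.inr ⟨hg, fun h => hg0 ((hCiff g0).mp ?_)⟩
        simpa using C.mul_mem (C.inv_mem hg) h
      · refine Or.inl ⟨(hCiff _).mpr ?_, hg⟩
        rw [hCiff] at hg
        calc g * g0 * x = g * (z * (x * g0)) := by rw [mul_assoc, hzc g0 hg0]
          _ = z * (g * x) * g0 := by rw [← mul_assoc, hF.central z hzΦ g]; group
          _ = z * (z * (x * g)) * g0 := by rw [hzc g hg]
          _ = x * (g * g0) := by rw [← mul_assoc z z, hF.elem z hzΦ, one_mul, mul_assoc]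
    -- the square-trivial elements of the centraliser
    have hCone : ∀ c ∈ C, c * c = 1 → c ∈ Φ ∨ x * c ∈ Φ := by
      intro c hcC hcc
      by_contra hcon
      push Not at hcon
      let N : Subgroup X :=
        { carrier := {y | y ∈ Φ ∨ x * y ∈ Φ}
          one_mem' := Or.inl Φ.one_mem
          mul_mem' := fun {y w} hy hw => by
            rcases hy with hy | hy <;> rcases hw with hw | hw
            · exact Or.inl (mul_mem hy hw)
            · exact Or.inr (by rw [← mul_assoc, hF.central y hy x, mul_assoc]; exact mul_mem hy hw)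
            · exact Or.inr (by rw [← mul_assoc]; exact mul_mem hy hw)
            · refine Or.inl ?_
              have e : (x * y) * (x * w) = y * w := by
                calc x * y * (x * w) = x * ((x * (x * y)) * x) * w := by
                      rw [← mul_assoc x x y, hx, one_mul]; group
                  _ = x * (x * (x * y) * x) * w := rfl
                  _ = x * (x * (x * (x * y))) * w := by rw [mul_assoc x (x * y) x, ← hF.central _ hy x]
                  _ = y * w := by simp [← mul_assoc, hx]
              rw [← e]; exact mul_mem hy hw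
          inv_mem' := fun {y} hy => by
            rcases hy with hy | hy
            · exact Or.inl (inv_mem hy)
            · refine Or.inr ?_
              have e : x * y⁻¹ = x * (x * y)⁻¹ * x := by rw [mul_inv_rev, hxinv]; simp [mul_assoc, hx]
              rw [e, hF.central _ (inv_mem hy) x, mul_assoc, hx, mul_one]
              exact inv_mem hy }
      have hNe : ∀ u ∈ N, u * u = 1 := by
        rintro u (hu | hu)
        · exact hF.elem u hu
        · have hu' : u = x * (x * u) := by rw [← mul_assoc, hx, one_mul]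
          rw [hu', hF.sq_mul_mem x hu, hx]
      have hNn : N.Normal := ⟨fun u hu g => by
        rcases hu with hu | hu
        · exact Or.inl (hF.normal.conj_mem u hu g)
        · refine Or.inr ?_
          rw [show x * (g * u * g⁻¹) = ⁅x, g⁆ * (g * (x * u) * g⁻¹) by rw [commutatorElement_def]; group]
          exact mul_mem (hF.comm x g) (hF.normal.conj_mem _ hu g)⟩
      have := hS.card_extend hNe hcc (fun u hu => by
          rcases hu with hu | hu
          · exact hF.central u hu c
          · have hu' : u = x * (x * u) := by rw [← mul_assoc, hx, one_mul]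
            rw [hu', ← mul_assoc c, (hCiff c).mp hcC, mul_assoc, hF.central _ hu c, ← mul_assoc])
        hNn (fun g => Or.inl (hF.comm c g)) (fun h => h.elim hcon.1 hcon.2)
      have h3 : 3 ≤ Nat.card N := by
        have hsub : ({1, z, x} : Finset X) ⊆ Finset.univ.filter (· ∈ N) := by
          intro w hw
          simp only [Finset.mem_insert, Finset.mem_singleton] at hw
          simp only [Finset.mem_filter, Finset.mem_univ, true_and]
          rcases hw with rfl | rfl | rfl
          exacts [one_mem N, Or.inl hzΦ, Or.inr (by rw [hx]; exact one_mem Φ)]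
        have hthree : ({1, z, x} : Finset X).card = 3 := by
          have n1 : (1 : X) ≠ x := fun h => hxΦ (h ▸ one_mem Φ)
          have n2 : z ≠ x := fun h => hxΦ (h ▸ hzΦ)
          simp [hz1.symm, n1, n2]
        have h6 := Finset.card_le_card hsub
        rwa [hthree, ← Nat.subtype_card (p := (· ∈ N)) _ (fun w => by simp)] at h6
      omega
    have hj4 : Φ.index ≠ 4 ∧ Φ.index ≠ 8 := by
      constructor <;>
      · intro hsmall
        obtain ⟨a, b, hab⟩ := hS.na
        refine hab (comm_of_sq (E := (⊤ : Subgroup X)) (fun u _ => ?_) a trivial b trivial)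
        by_cases hu : u ∈ Φ
        · exact hF.elem u hu
        obtain ⟨φ, hφ, hmemφ⟩ := hF.trans_small hS (by omega) hxΦ hu
        have e : (φ : MulAut X) x = u * (u⁻¹ * φ x) := by group
        have h1 : (φ : MulAut X) x * φ x = 1 := by rw [← map_mul, hx, map_one]
        rwa [e, hF.sq_mul_mem u hmemφ] at h1
    -- the centraliser modulo its square-trivial elements is anisotropic
    have hsqC : ∀ c ∈ C, c * c ∈ Φ := fun c _ => hF.sq c
    have hbound : Φ.index ≤ 16 := by
      let M : Subgroup C :=
        { carrier := {c | (c : X) * c = 1}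
          one_mem' := by simp
          mul_mem' := fun {c c'} hc hc' => by
            show (c : X) * c' * (c * c') = 1
            rcases hCone c c.2 hc with h | h
            · calc (c : X) * c' * (c * c') = c * (c' * c) * c' := by group
                _ = (c * c) * (c' * c') := by rw [hF.central _ h c']; group
                _ = 1 := by rw [show (c' : X) * c' = 1 from hc', show (c : X) * c = 1 from hc, one_mul]
            · have hcc' : (c' : X) * c = c * c' := by
                have e : (c : X) = x * (x * c) := by rw [← mul_assoc, hx, one_mul]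
                rw [e, ← mul_assoc, (hCiff c').mp c'.2, mul_assoc, hF.central _ h c', ← mul_assoc]
              calc (c : X) * c' * (c * c') = c * (c' * c) * c' := by group
                _ = (c * c) * (c' * c') := by rw [hcc']; group
                _ = 1 := by rw [show (c' : X) * c' = 1 from hc', show (c : X) * c = 1 from hc, one_mul]
          inv_mem' := fun {c} hc => by
            show (c : X)⁻¹ * (c : X)⁻¹ = 1
            rw [← mul_inv_rev, show (c : X) * c = 1 from hc, inv_one] }
      -- at most four square roots of a given square inside the centraliser, modulo `M`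
      have hMcard : Nat.card M ≤ 4 := by
        have hsub : ∀ c : M, ((c : C) : X) ∈ ({1, z, x, x * z} : Finset X) := fun c => by
          simp only [Finset.mem_insert, Finset.mem_singleton]
          rcases hCone _ (c : C).2 c.2 with h | h
          · rcases hmem _ h with h' | h' <;> simp [h']
          · have e : ((c : C) : X) = x * (x * (c : C)) := by rw [← mul_assoc, hx, one_mul]
            rcases hmem _ h with h' | h' <;> rw [h'] at e <;> simp [e]
        calc Nat.card M ≤ Nat.card ({1, z, x, x * z} : Finset X) :=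
              Nat.card_le_card_of_injective (fun c => ⟨_, hsub c⟩) fun c c' h =>
                Subtype.ext (Subtype.ext (congrArg (Subtype.val (p := fun u : X => u ∈ ({1, z, x, x * z} : Finset X))) h))
          _ ≤ 4 := by
            rw [Nat.card_eq_finsetCard]
            exact (Finset.card_insert_le _ _).trans (Nat.succ_le_succ ((Finset.card_insert_le _ _).trans
              (Nat.succ_le_succ ((Finset.card_insert_le _ _).trans (by simp)))))
      haveI hMn : M.Normal := ⟨fun c hc g => by
        show (g : X) * c * (g : X)⁻¹ * (g * c * (g : X)⁻¹) = 1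
        calc _ = (g : X) * (c * c) * (g : X)⁻¹ := by group
          _ = 1 := by rw [show (c : X) * c = 1 from hc, mul_one, mul_inv_cancel]⟩
      have hidx : M.index ≤ 4 := by
        letI : CommGroup (C ⧸ M) := { (inferInstance : Group (C ⧸ M)) with
          mul_comm := fun a b => by
            obtain ⟨a, rfl⟩ := QuotientGroup.mk'_surjective M a
            obtain ⟨b, rfl⟩ := QuotientGroup.mk'_surjective M b
            rw [← commutatorElement_eq_one_iff_mul_comm, ← map_commutatorElement]
            refine (QuotientGroup.eq_one_iff _).mpr ?_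
            show ((⁅a, b⁆ : C) : X) * ((⁅a, b⁆ : C) : X) = 1
            exact hF.elem _ (by simpa [commutatorElement_def] using hF.comm (a : X) (b : X)) }
        let f : X → ZMod 2 := fun u => if u = 1 then 0 else 1
        have hzmul : z * z = 1 := hF.elem z hzΦ
        have fadd : ∀ u ∈ Φ, ∀ v ∈ Φ, f (u * v) = f u + f v := by
          intro u hu v hv
          rcases hmem u hu with rfl | rfl <;> rcases hmem v hv with rfl | rfl <;>
            simp [f, hz1, hzmul] <;> exact zmod_two_add
        let q : Additive (C ⧸ M) → ZMod 2 := fun v =>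
          f (((Quotient.out (Additive.toMul v) : C) : X) * ((Quotient.out (Additive.toMul v) : C) : X))
        have hsame : ∀ c d : C, (d : X) * d = 1 → (c : X) * d * (c * d) = c * c := by
          intro c d hd
          have hcd : (d : X) * c = c * d := by
            rcases hCone d d.2 hd with h | h
            · exact (hF.central _ h c).symm
            · have e : (d : X) = x * (x * d) := by rw [← mul_assoc, hx, one_mul]
              rw [e, mul_assoc, ← hF.central _ h c, ← mul_assoc, ← (hCiff c).mp c.2, mul_assoc]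
          calc (c : X) * d * (c * d) = c * (d * c) * d := by group
            _ = c * c * (d * d) := by rw [hcd]; group
            _ = c * c := by rw [hd, mul_one]
        have hq : ∀ c : C, q (Additive.ofMul (c : C ⧸ M)) = f ((c : X) * c) := fun c => by
          show f (((Quotient.out (c : C ⧸ M) : C) : X) * ((Quotient.out (c : C ⧸ M) : C) : X)) = _
          have hd : c⁻¹ * Quotient.out (c : C ⧸ M) ∈ M := QuotientGroup.eq.mp (QuotientGroup.out_eq' _).symm
          have := hsame c _ hd
          rw [← Subgroup.coe_mul, mul_inv_cancel_left] at this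
          rw [this]
        have hb : ∀ a b : C, q (Additive.ofMul (a : C ⧸ M) + Additive.ofMul (b : C ⧸ M)) =
            q (Additive.ofMul (a : C ⧸ M)) + q (Additive.ofMul (b : C ⧸ M)) + f ⁅(a : X)⁻¹, (b : X)⁆ :=
          fun a b => by
            rw [← ofMul_mul, ← QuotientGroup.mk_mul, hq, hq, hq, Subgroup.coe_mul, hF.sq_mul,
              fadd _ (mul_mem (hF.sq _) (hF.sq _)) _ (hF.comm _ _), fadd _ (hF.sq _) _ (hF.sq _)]
        have hl : ∀ a a' b : X, ⁅(a * a')⁻¹, b⁆ = ⁅a⁻¹, b⁆ * ⁅a'⁻¹, b⁆ := fun a a' b => by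
          rw [mul_inv_rev, show ⁅a'⁻¹ * a⁻¹, b⁆ = a'⁻¹ * ⁅a⁻¹, b⁆ * a' * ⁅a'⁻¹, b⁆ by
            simp only [commutatorElement_def]; group, hF.central _ (hF.comm _ _) a'⁻¹,
            inv_mul_cancel_right]
        have hr : ∀ a b b' : X, ⁅a⁻¹, b * b'⁆ = ⁅a⁻¹, b⁆ * ⁅a⁻¹, b'⁆ := fun a b b' => by
          rw [show ⁅a⁻¹, b * b'⁆ = ⁅a⁻¹, b⁆ * (b * ⁅a⁻¹, b'⁆ * b⁻¹) by
            simp only [commutatorElement_def]; group, hF.central _ (hF.comm _ _) b, mul_inv_cancel_right]
        let Bf : Additive (C ⧸ M) → Additive (C ⧸ M) → ZMod 2 := fun u v => q (u + v) - q u - q v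
        have hBf : ∀ a b : C, Bf (Additive.ofMul (a : C ⧸ M)) (Additive.ofMul (b : C ⧸ M)) =
            f ⁅(a : X)⁻¹, (b : X)⁆ := fun a b => by
          show q (_ + _) - q _ - q _ = _
          rw [hb]; ring
        have hBl : ∀ u u' v, Bf (u + u') v = Bf u v + Bf u' v := by
          intro u u' v
          obtain ⟨a, rfl⟩ := QuotientGroup.mk_surjective (Additive.toMul u)
          obtain ⟨a', rfl⟩ := QuotientGroup.mk_surjective (Additive.toMul u')
          obtain ⟨b, rfl⟩ := QuotientGroup.mk_surjective (Additive.toMul v)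
          show Bf (Additive.ofMul ((a * a' : C) : C ⧸ M)) (Additive.ofMul (b : C ⧸ M)) = _
          rw [hBf, Subgroup.coe_mul, hl, fadd _ (hF.comm _ _) _ (hF.comm _ _), ← hBf, ← hBf]; rfl
        let B : Additive (C ⧸ M) →+ Additive (C ⧸ M) →+ ZMod 2 := AddMonoidHom.mk'
          (fun u => AddMonoidHom.mk' (Bf u) fun v v' => by
            obtain ⟨a, rfl⟩ := QuotientGroup.mk_surjective (Additive.toMul u)
            obtain ⟨b, rfl⟩ := QuotientGroup.mk_surjective (Additive.toMul v)
            obtain ⟨b', rfl⟩ := QuotientGroup.mk_surjective (Additive.toMul v')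
            show Bf (Additive.ofMul (a : C ⧸ M)) (Additive.ofMul ((b * b' : C) : C ⧸ M)) = _
            rw [hBf, Subgroup.coe_mul, hr, fadd _ (hF.comm _ _) _ (hF.comm _ _), ← hBf, ← hBf]; rfl)
          fun u u' => AddMonoidHom.ext fun v => hBl u u' v
        have := SuzukiTwo.card_le_sq_of_anisotropic (X := Additive (C ⧸ M)) (W := ZMod 2)
          (fun u => by
            obtain ⟨a, rfl⟩ := QuotientGroup.mk_surjective (Additive.toMul u)
            show Additive.ofMul ((a * a : C) : C ⧸ M) = 0
            rw [(QuotientGroup.eq_one_iff _).mpr (show ((a * a : C) : X) * ((a * a : C) : X) = 1 from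
              hF.elem _ (by simpa using hF.sq (a : X)))]; rfl)
          CharTwo.add_self_eq_zero q
          (by rw [show (0 : Additive (C ⧸ M)) = Additive.ofMul ((1 : C) : C ⧸ M) from rfl, hq]; simp [f])
          B (fun u v => by show q (u + v) = q u + q v + (q (u + v) - q u - q v); ring)
          (fun u hu => by
            obtain ⟨a, ha⟩ := QuotientGroup.mk_surjective (Additive.toMul u)
            rw [show u = Additive.ofMul (a : C ⧸ M) by rw [ha]; rfl] at hu ⊢
            rw [hq] at hu
            have h1 : (a : X) * a = 1 := by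
              by_contra h; simp [f, h] at hu
            rw [(QuotientGroup.eq_one_iff a).mpr h1]; rfl)
        rw [Nat.card_zmod] at this
        exact this
      have hCcard : Nat.card C ≤ 16 := by
        rw [← M.card_mul_index]
        exact (Nat.mul_le_mul hMcard hidx).trans (by norm_num)
      have hh := C.card_mul_index
      rw [hC2, hXcard] at hh
      omega
    have hidx16 : Φ.index = 16 := by
      rw [hj] at hj4 hbound h4 ⊢
      have : j ≤ 4 := by
        by_contra h
        have : 2 ^ 5 ≤ 2 ^ j := Nat.pow_le_pow_right (by norm_num) (by omega)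
        omega
      interval_cases j <;> simp_all
    refine ⟨hex, by omega, ?_⟩
    have hCc : Nat.card C = 16 := by
      have := C.card_mul_index
      rw [hC2] at this
      omega
    obtain ⟨g0, hg0⟩ : ∃ g, g ∉ C := by
      by_contra h
      push Not at h
      have : C = ⊤ := eq_top_iff.mpr fun g _ => h g
      rw [this, Subgroup.index_top] at hC2
      omega
    set S := Finset.univ.filter (fun u : X => u * u = 1) with hS'
    set S1 := S.filter (· ∈ C) with hS1
    set S2 := S.filter (· ∉ C) with hS2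
    set O2 := (Finset.univ.filter (fun u : X => u ∉ C)) with hO2
    have hS1c : S1.card = 4 := by
      have : S1 = ({1, z, x, x * z} : Finset X) := by
        ext u
        simp only [hS1, hS', Finset.mem_filter, Finset.mem_univ, true_and, Finset.mem_insert,
          Finset.mem_singleton]
        constructor
        · rintro ⟨hu, huC⟩
          rcases hCone u huC hu with h | h
          · rcases hmem u h with rfl | rfl <;> simp
          · have e : u = x * (x * u) := by rw [← mul_assoc, hx, one_mul]
            rcases hmem _ h with h' | h' <;> rw [h'] at e <;> simp [e]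
        · rintro (rfl | rfl | rfl | rfl)
          · exact ⟨one_mul 1, one_mem C⟩
          · exact ⟨hF.elem _ hzΦ, (hCiff _).mpr (hF.central _ hzΦ x).symm⟩
          · exact ⟨hx, (hCiff _).mpr rfl⟩
          · refine ⟨by rw [hF.sq_mul_mem x hzΦ, hx], (hCiff _).mpr ?_⟩
            rw [mul_assoc, ← hF.central z hzΦ x, ← mul_assoc]
      rw [this]
      have n1 : (1 : X) ≠ x := fun h => hxΦ (h ▸ one_mem Φ)
      have n2 : z ≠ x := fun h => hxΦ (h ▸ hzΦ)
      have n3 : (1 : X) ≠ x * z := fun h => hxΦ (by
        rw [eq_inv_of_mul_eq_one_left h.symm]; exact inv_mem hzΦ)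
      have n4 : z ≠ x * z := fun h => n1 (mul_eq_right.mp h.symm).symm
      have n5 : x ≠ x * z := fun h => hz1 (mul_eq_left.mp h.symm)
      simp [hz1.symm, n1, n2, n3, n4, n5]
    have hflip : ∀ u, u ∉ C → (u * x * (u * x) = 1 ↔ ¬ u * u = 1) := by
      intro u hu
      rw [hCiff] at hu
      have e : u * x * (u * x) = u * u * z := by
        rw [hF.sq_mul, hx, mul_one, (hmem _ (hF.comm u⁻¹ x)).resolve_left fun h => hu ?_]
        have := commutatorElement_eq_one_iff_mul_comm.mp h
        calc u * x = u * (u⁻¹ * x * u) := by rw [this]; group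
          _ = x * u := by group
      rw [e]
      rcases hmem _ (hF.sq u) with h | h <;> rw [h]
      · simp [hz1]
      · simp [hF.elem z hzΦ, hz1]
    have hS2c : S2.card = 8 := by
      have hsplit : O2.card = S2.card + (O2.filter (fun u => ¬ u * u = 1)).card := by
        rw [← Finset.card_filter_add_card_filter_not (s := O2) (fun u => u * u = 1)]
        congr 2
        ext u; simp [hO2, hS2, hS', and_comm]
      have hbij : S2.card = (O2.filter (fun u => ¬ u * u = 1)).card := by
        refine Finset.card_bij (fun u _ => u * x) ?_ (fun u _ v _ h => mul_right_cancel h) ?_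
        · intro u hu
          simp only [hS2, hS', hO2, Finset.mem_filter, Finset.mem_univ, true_and] at hu ⊢
          refine ⟨fun h => hu.2 ?_, fun h => ((hflip u hu.2).mp h) hu.1⟩
          simpa using C.mul_mem h (C.inv_mem ((hCiff x).mpr rfl))
        · intro v hv
          simp only [hS2, hS', hO2, Finset.mem_filter, Finset.mem_univ, true_and] at hv
          refine ⟨v * x, ?_, by rw [mul_assoc, hx, mul_one]⟩
          simp only [hS2, hS', Finset.mem_filter, Finset.mem_univ, true_and]
          refine ⟨(hflip v hv.1).mpr hv.2, fun h => hv.1 ?_⟩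
          simpa using C.mul_mem h (C.inv_mem ((hCiff x).mpr rfl))
      have hO : O2.card = 16 := by
        have h1 := Finset.card_filter_add_card_filter_not (s := (Finset.univ : Finset X)) (· ∈ C)
        rw [Finset.card_univ, ← Nat.subtype_card (p := (· ∈ C)) _ (fun w => by simp), ← hO2,
          Fintype.card_eq_nat_card] at h1
        omega
      omega
    have hScard : S.card = 12 := by
      rw [← Finset.card_filter_add_card_filter_not (s := S) (· ∈ C), ← hS1, ← hS2]
      omega
    rw [Nat.subtype_card (p := fun u : X => orderOf u = 2) (S.erase 1) (fun u => by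
      simp only [Finset.mem_erase, hS', Finset.mem_filter, Finset.mem_univ, true_and]
      rw [orderOf_eq_prime_iff, pow_two]
      tauto), Finset.card_erase_of_mem (by simp [hS']), hScard]

theorem special_sixtyfour (hF : Flat X Φ) [Φ.Characteristic] (hΦ : Φ = frattini X)
    (h4 : Nat.card Φ = 4) :
    Cfsg.IsSpecial 2 X ∧ Nat.card X = 64 ∧ Nat.card {x : X // orderOf x = 2} = 3 ∧
      ∀ x : X, orderOf x = 2 → x ∈ Subgroup.center X := by
  classical
  haveI : Fact (Nat.Prime 2) := ⟨Nat.prime_two⟩
  haveI := hF.normal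
  haveI : Fintype X := Fintype.ofFinite X
  letI : CommGroup Φ := { (inferInstance : Group Φ) with
    mul_comm := fun a b => Subtype.ext (hF.central b b.2 a) }
  letI : CommGroup (X ⧸ Φ) := { (inferInstance : Group (X ⧸ Φ)) with
    mul_comm := fun a b => by
      obtain ⟨a, rfl⟩ := QuotientGroup.mk'_surjective Φ a
      obtain ⟨b, rfl⟩ := QuotientGroup.mk'_surjective Φ b
      rw [← commutatorElement_eq_one_iff_mul_comm, ← map_commutatorElement]
      exact (QuotientGroup.eq_one_iff _).mpr (hF.comm a b) }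
  have hinv : ∀ (φ : MulAut X) {u}, u ∈ Φ → φ u ∈ Φ := fun φ u hu =>
    Subgroup.characteristic_iff_le_comap.mp (inferInstance : Φ.Characteristic) φ hu
  have hl : ∀ a a' b : X, ⁅(a * a')⁻¹, b⁆ = ⁅a⁻¹, b⁆ * ⁅a'⁻¹, b⁆ := fun a a' b => by
    rw [mul_inv_rev, show ⁅a'⁻¹ * a⁻¹, b⁆ = a'⁻¹ * ⁅a⁻¹, b⁆ * a' * ⁅a'⁻¹, b⁆ by
      simp only [commutatorElement_def]; group, hF.central _ (hF.comm _ _) a'⁻¹, inv_mul_cancel_right]
  have hr : ∀ a b b' : X, ⁅a⁻¹, b * b'⁆ = ⁅a⁻¹, b⁆ * ⁅a⁻¹, b'⁆ := fun a b b' => by
    rw [show ⁅a⁻¹, b * b'⁆ = ⁅a⁻¹, b⁆ * (b * ⁅a⁻¹, b'⁆ * b⁻¹) by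
      simp only [commutatorElement_def]; group, hF.central _ (hF.comm _ _) b, mul_inv_cancel_right]
  let q : Additive (X ⧸ Φ) → Additive Φ := fun v => Additive.ofMul
    ⟨Quotient.out (Additive.toMul v) * Quotient.out (Additive.toMul v), hF.sq _⟩
  have hq : ∀ x : X, q (Additive.ofMul (x : X ⧸ Φ)) = Additive.ofMul ⟨x * x, hF.sq x⟩ := fun x => by
    refine congrArg Additive.ofMul (Subtype.ext ?_)
    show Quotient.out (x : X ⧸ Φ) * Quotient.out (x : X ⧸ Φ) = _
    have hd : x⁻¹ * Quotient.out (x : X ⧸ Φ) ∈ Φ := QuotientGroup.eq.mp (QuotientGroup.out_eq' _).symm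
    have := hF.sq_mul_mem x hd
    rwa [mul_inv_cancel_left] at this
  let Bf : Additive (X ⧸ Φ) → Additive (X ⧸ Φ) → Additive Φ := fun u v => q (u + v) - q u - q v
  have hBf : ∀ a b : X, Bf (Additive.ofMul (a : X ⧸ Φ)) (Additive.ofMul (b : X ⧸ Φ)) =
      Additive.ofMul ⟨⁅a⁻¹, b⁆, hF.comm _ _⟩ := fun a b => by
    show q (_ + _) - q _ - q _ = _
    rw [← ofMul_mul, ← QuotientGroup.mk_mul, hq, hq, hq, sub_sub, sub_eq_iff_eq_add, ← ofMul_mul,
      ← ofMul_mul]
    refine congrArg Additive.ofMul (Subtype.ext ?_)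
    show a * b * (a * b) = ⁅a⁻¹, b⁆ * (a * a * (b * b))
    rw [hF.sq_mul, hF.central _ (hF.comm _ _) (a * a * (b * b))]
  have hBl : ∀ u u' v, Bf (u + u') v = Bf u v + Bf u' v := by
    intro u u' v
    obtain ⟨a, rfl⟩ := QuotientGroup.mk_surjective (Additive.toMul u)
    obtain ⟨a', rfl⟩ := QuotientGroup.mk_surjective (Additive.toMul u')
    obtain ⟨b, rfl⟩ := QuotientGroup.mk_surjective (Additive.toMul v)
    show Bf (Additive.ofMul ((a * a' : X) : X ⧸ Φ)) (Additive.ofMul (b : X ⧸ Φ)) =
      Bf (Additive.ofMul (a : X ⧸ Φ)) (Additive.ofMul (b : X ⧸ Φ)) +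
        Bf (Additive.ofMul (a' : X ⧸ Φ)) (Additive.ofMul (b : X ⧸ Φ))
    rw [hBf, hBf, hBf]
    exact congrArg Additive.ofMul (Subtype.ext (hl a a' b))
  let B : Additive (X ⧸ Φ) →+ Additive (X ⧸ Φ) →+ Additive Φ := AddMonoidHom.mk'
    (fun u => AddMonoidHom.mk' (Bf u) fun v v' => by
      obtain ⟨a, rfl⟩ := QuotientGroup.mk_surjective (Additive.toMul u)
      obtain ⟨b, rfl⟩ := QuotientGroup.mk_surjective (Additive.toMul v)
      obtain ⟨b', rfl⟩ := QuotientGroup.mk_surjective (Additive.toMul v')
      show Bf (Additive.ofMul (a : X ⧸ Φ)) (Additive.ofMul ((b * b' : X) : X ⧸ Φ)) = _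
      rw [hBf]
      show _ = Bf (Additive.ofMul (a : X ⧸ Φ)) (Additive.ofMul (b : X ⧸ Φ)) +
        Bf (Additive.ofMul (a : X ⧸ Φ)) (Additive.ofMul (b' : X ⧸ Φ))
      rw [hBf, hBf]
      exact congrArg Additive.ofMul (Subtype.ext (hr a b b')))
    fun u u' => AddMonoidHom.ext fun v => hBl u u' v
  have hbound : Φ.index ≤ 16 := by
    have := SuzukiTwo.card_le_sq_of_anisotropic (X := Additive (X ⧸ Φ)) (W := Additive Φ)
      (fun u => by
        obtain ⟨a, rfl⟩ := QuotientGroup.mk_surjective (Additive.toMul u)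
        show Additive.ofMul ((a * a : X) : X ⧸ Φ) = 0
        rw [(QuotientGroup.eq_one_iff _).mpr (hF.sq a)]; rfl)
      (fun w => congrArg Additive.ofMul (Subtype.ext (hF.elem _ (Additive.toMul w).2) :
        Additive.toMul w * Additive.toMul w = 1))
      q (by
        rw [show (0 : Additive (X ⧸ Φ)) = Additive.ofMul ((1 : X) : X ⧸ Φ) from rfl, hq]
        exact congrArg Additive.ofMul (Subtype.ext (one_mul 1)))
      B (fun u v => by show q (u + v) = q u + q v + (q (u + v) - q u - q v); abel)
      (fun u hu => by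
        obtain ⟨a, ha⟩ := QuotientGroup.mk_surjective (Additive.toMul u)
        rw [show u = Additive.ofMul (a : X ⧸ Φ) by rw [ha]; rfl] at hu ⊢
        rw [hq] at hu
        rw [(QuotientGroup.eq_one_iff _).mpr (hF.mem_of_sq hS h4
          (congrArg (fun w : Additive Φ => ((Additive.toMul w : Φ) : X)) hu))]; rfl)
    rw [show Nat.card (Additive Φ) = 4 from h4] at this
    exact this
  have hsq1 : ∀ x, x ∉ Φ → x * x ≠ 1 := fun x hx h => hx (hF.mem_of_sq hS h4 h)
  have hΦgen : ∀ c : X, (∀ x, x ∉ Φ → x * x = c) → False := by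
    intro c hc
    obtain ⟨x, hx⟩ : ∃ x, x ∉ Φ := by
      by_contra h
      push Not at h
      have h4' := hF.card_quotient_ne hS
      rw [show Φ = ⊤ from eq_top_iff.mpr fun g _ => h g, Subgroup.index_top] at h4'
      omega
    have hcΦ : c ∈ Φ := hc x hx ▸ hF.sq x
    have hle := hF.least (Subgroup.zpowers c) (Subgroup.zpowers_le.mpr hcΦ) fun u => by
      by_cases hu : u ∈ Φ
      · rw [hF.elem u hu]; exact one_mem _
      · rw [hc u hu]; exact Subgroup.mem_zpowers c
    have h1 := Subgroup.card_le_of_le hle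
    rw [h4, Nat.card_zpowers] at h1
    have : orderOf c ∣ 2 := orderOf_dvd_of_pow_eq_one (by rw [pow_two, hF.elem c hcΦ])
    have := Nat.le_of_dvd (by norm_num) this
    omega
  have hidx16 : Φ.index = 16 := by
    obtain ⟨j, hj⟩ := hS.two.index Φ
    have h4' := hF.card_quotient_ne hS
    rw [hj] at hbound h4' ⊢
    by_contra hne
    have hsmall : Φ.index ≤ 8 := by
      rw [hj]
      have : j ≤ 3 := by
        by_contra h
        rcases (by omega : j = 4 ∨ 5 ≤ j) with rfl | h5
        · exact hne rfl
        · have : 2 ^ 5 ≤ 2 ^ j := Nat.pow_le_pow_right (by norm_num) h5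
          omega
      exact Nat.pow_le_pow_right (by norm_num) this |>.trans (by norm_num)
    -- squares of the elements outside form one orbit
    obtain ⟨x, hx⟩ : ∃ x, x ∉ Φ := by
      by_contra h
      push Not at h
      rw [show Φ = ⊤ from eq_top_iff.mpr fun g _ => h g, Subgroup.index_top] at hj
      omega
    haveI : Finite (MulAut X) := Finite.of_injective _ DFunLike.coe_injective
    letI act : MulAction A (X ⧸ Φ) :=
      { smul := fun φ => QuotientGroup.map Φ Φ (φ : MulAut X).toMonoidHom
          (Subgroup.characteristic_iff_le_comap.mp inferInstance (φ : MulAut X))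
        one_smul := fun v => by
          induction v using QuotientGroup.induction_on with
          | _ v => rfl
        mul_smul := fun φ ψ v => by
          induction v using QuotientGroup.induction_on with
          | _ v => rfl }
    have horbQ : MulAction.orbit A (x : X ⧸ Φ) = {(1 : X ⧸ Φ)}ᶜ := by
      ext w
      obtain ⟨w, rfl⟩ := QuotientGroup.mk_surjective w
      simp only [Set.mem_compl_iff, Set.mem_singleton_iff, QuotientGroup.eq_one_iff]
      constructor
      · rintro ⟨φ, hφ⟩ hw
        have h1 : ((φ : MulAut X) x)⁻¹ * w ∈ Φ := QuotientGroup.eq.mp hφ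
        have h2 : (φ : MulAut X) x ∈ Φ := by simpa using mul_mem hw (inv_mem h1)
        exact hx (by simpa using hinv (φ : MulAut X)⁻¹ h2)
      · intro hw
        obtain ⟨φ, hφ, h⟩ := hF.trans_small hS hsmall hx hw
        exact ⟨⟨φ, hφ⟩, (QuotientGroup.eq.mpr h).symm⟩
    have horbX : ∀ w, w ∉ Φ → w * w ∈ MulAction.orbit A (x * x) := fun w hw => by
      obtain ⟨φ, hφ, h⟩ := hF.trans_small hS hsmall hx hw
      refine ⟨⟨φ, hφ⟩, ?_⟩
      show φ (x * x) = w * w
      have e : φ x = w * (w⁻¹ * φ x) := by group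
      rw [map_mul, e, hF.sq_mul_mem w h]
    have hstab : MulAction.stabilizer A (x : X ⧸ Φ) ≤ MulAction.stabilizer A (x * x) := fun φ hφ => by
      have h1 : ((φ : MulAut X) x)⁻¹ * x ∈ Φ := QuotientGroup.eq.mp hφ
      show (φ : MulAut X) (x * x) = x * x
      have := hF.sq_mul_mem ((φ : MulAut X) x) h1
      rw [mul_inv_cancel_left] at this
      rw [map_mul, this]
    have hdvd : (MulAction.orbit A (x * x)).ncard ∣ 2 ^ j - 1 := by
      have h1 : (MulAction.orbit A (x : X ⧸ Φ)).ncard = 2 ^ j - 1 := by
        rw [horbQ, Set.ncard_compl, Set.ncard_singleton, ← Subgroup.index_eq_card, hj]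
      rw [← h1, ← MulAction.index_stabilizer, ← MulAction.index_stabilizer]
      exact Subgroup.index_dvd_of_le hstab
    have hsub : MulAction.orbit A (x * x) ⊆ (Φ : Set X) \ {1} := by
      rintro _ ⟨φ, rfl⟩
      exact ⟨hinv _ (hF.sq x), fun h => hsq1 x hx ((φ : MulAut X).injective
        ((show (φ : MulAut X) (x * x) = 1 from h).trans (map_one _).symm))⟩
    have hΦ3 : ((Φ : Set X) \ {1}).ncard = 3 := by
      rw [Set.ncard_sdiff_singleton_of_mem Φ.one_mem, ← Nat.card_coe_set_eq]
      have : Nat.card (Φ : Set X) = 4 := h4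
      omega
    have hle3 : (MulAction.orbit A (x * x)).ncard ≤ 3 := hΦ3 ▸ Set.ncard_le_ncard hsub
    by_cases hone : (MulAction.orbit A (x * x)).ncard = 1
    · obtain ⟨c, hc⟩ := Set.ncard_eq_one.mp hone
      exact hΦgen c fun w hw => by simpa [hc] using horbX w hw
    have hodd : Odd (MulAction.orbit A (x * x)).ncard := by
      rw [← MulAction.index_stabilizer]
      exact hS.odd.of_dvd_nat (Subgroup.index_dvd_card _)
    have h3 : (MulAction.orbit A (x * x)).ncard = 3 := by obtain ⟨i, hi⟩ := hodd; omega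
    have hO : MulAction.orbit A (x * x) = (Φ : Set X) \ {1} :=
      Set.eq_of_subset_of_ncard_le hsub (by omega)
    have hj2 : j = 2 := by
      have : j ≤ 3 := by
        by_contra h
        have : 2 ^ 4 ≤ 2 ^ j := Nat.pow_le_pow_right (by norm_num) (by omega)
        omega
      rw [h3] at hdvd
      interval_cases j <;> omega
    subst hj2
    -- four cosets
    obtain ⟨y, hy, hxy⟩ : ∃ y, y ∉ Φ ∧ x⁻¹ * y ∉ Φ := by
      by_contra h
      push Not at h
      have hsub2 : (Set.univ : Set (X ⧸ Φ)) ⊆ {1, (x : X ⧸ Φ)} := fun w _ => by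
        obtain ⟨w, rfl⟩ := QuotientGroup.mk_surjective w
        by_cases hw : w ∈ Φ
        · exact Or.inl ((QuotientGroup.eq_one_iff w).mpr hw)
        · exact Or.inr (QuotientGroup.eq.mpr (h w hw)).symm
      have h2' := Set.ncard_le_ncard hsub2
      rw [Set.ncard_univ, ← Subgroup.index_eq_card, hj] at h2'
      have h2'' := Set.ncard_insert_le (1 : X ⧸ Φ) {(x : X ⧸ Φ)}
      rw [Set.ncard_singleton] at h2''
      omega
    have hgen : ∀ w : X, w ∈ Φ ∨ x⁻¹ * w ∈ Φ ∨ y⁻¹ * w ∈ Φ ∨ (x * y)⁻¹ * w ∈ Φ := by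
      have huniv : ({1, (x : X ⧸ Φ), (y : X ⧸ Φ), ((x * y : X) : X ⧸ Φ)} : Set (X ⧸ Φ)) = Set.univ := by
        refine Set.eq_of_subset_of_ncard_le (Set.subset_univ _) ?_
        rw [Set.ncard_univ, ← Subgroup.index_eq_card, hj]
        have n1 : (1 : X ⧸ Φ) ≠ (x : X ⧸ Φ) := fun h => hx ((QuotientGroup.eq_one_iff x).mp h.symm)
        have n2 : (1 : X ⧸ Φ) ≠ (y : X ⧸ Φ) := fun h => hy ((QuotientGroup.eq_one_iff y).mp h.symm)
        have n3 : (1 : X ⧸ Φ) ≠ ((x * y : X) : X ⧸ Φ) := fun h => hxy (by
          have h1 := (QuotientGroup.eq_one_iff _).mp h.symm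
          have h2 := mul_mem (inv_mem (hF.sq x)) h1
          rwa [show (x * x)⁻¹ * (x * y) = x⁻¹ * y by group] at h2)
        have n4 : (x : X ⧸ Φ) ≠ (y : X ⧸ Φ) := fun h => hxy (QuotientGroup.eq.mp h)
        have n5 : (x : X ⧸ Φ) ≠ ((x * y : X) : X ⧸ Φ) := fun h => hy (by
          simpa using QuotientGroup.eq.mp h)
        have n6 : (y : X ⧸ Φ) ≠ ((x * y : X) : X ⧸ Φ) := fun h => by
          rw [QuotientGroup.mk_mul] at h
          exact hx ((QuotientGroup.eq_one_iff x).mp (mul_eq_right.mp h.symm))
        rw [Set.ncard_insert_of_notMem (by rintro (h | h | h); exacts [n1 h, n2 h, n3 h]),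
          Set.ncard_insert_of_notMem (by rintro (h | h); exacts [n4 h, n5 h]),
          Set.ncard_pair n6]
        norm_num
      intro w
      have := huniv.symm ▸ Set.mem_univ (w : X ⧸ Φ)
      rcases this with h | h | h | h
      · exact Or.inl ((QuotientGroup.eq_one_iff w).mp h)
      · exact Or.inr (Or.inl (QuotientGroup.eq.mp h.symm))
      · exact Or.inr (Or.inr (Or.inl (QuotientGroup.eq.mp h.symm)))
      · exact Or.inr (Or.inr (Or.inr (QuotientGroup.eq.mp h.symm)))
    have hxyn : x * y ∉ Φ := fun h => hxy (by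
      have h2 := mul_mem (inv_mem (hF.sq x)) h
      rwa [show (x * x)⁻¹ * (x * y) = x⁻¹ * y by group] at h2)
    -- the three squares are the three involutions
    have hcover : ∀ d ∈ Φ, d ≠ 1 → d = x * x ∨ d = y * y ∨ d = x * y * (x * y) := by
      intro d hd hd1
      obtain ⟨φ, rfl⟩ := (hO.symm ▸ (⟨hd, hd1⟩ : d ∈ (Φ : Set X) \ {1}) : d ∈ MulAction.orbit A (x * x))
      have hφx : (φ : MulAut X) x ∉ Φ := fun h => hx (by simpa using hinv (φ : MulAut X)⁻¹ h)
      have e : φ • (x * x) = (φ : MulAut X) x * (φ : MulAut X) x := map_mul _ _ _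
      beta_reduce
      rw [e]
      rcases hgen ((φ : MulAut X) x) with h | h | h | h
      · exact absurd h hφx
      · left; have := hF.sq_mul_mem x h; rwa [mul_inv_cancel_left] at this
      · right; left; have := hF.sq_mul_mem y h; rwa [mul_inv_cancel_left] at this
      · right; right; have := hF.sq_mul_mem (x * y) h; rwa [mul_inv_cancel_left] at this
    have hthree : ({x * x, y * y, x * y * (x * y)} : Set X).ncard = 3 ∧
        ({x * x, y * y, x * y * (x * y)} : Set X) = (Φ : Set X) \ {1} := by
      have hsub' : (Φ : Set X) \ {1} ⊆ {x * x, y * y, x * y * (x * y)} := fun d hd => by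
        simpa using hcover d hd.1 hd.2
      have hle' : ({x * x, y * y, x * y * (x * y)} : Set X).ncard ≤ 3 :=
        (Set.ncard_insert_le _ _).trans (by
          have := Set.ncard_insert_le (y * y) {x * y * (x * y)}
          rw [Set.ncard_singleton] at this; omega)
      have hge := Set.ncard_le_ncard hsub'
      rw [hΦ3] at hge
      exact ⟨by omega, (Set.eq_of_subset_of_ncard_le hsub' (by omega)).symm⟩
    have hne_xy : x * x ≠ y * y := fun h => by
      have h1 := hthree.1
      rw [h, Set.insert_eq_of_mem (Set.mem_insert _ _)] at h1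
      have := Set.ncard_insert_le (y * y) {x * y * (x * y)}
      rw [Set.ncard_singleton] at this
      omega
    have hprod : x * x * (y * y) = x * y * (x * y) := by
      have hmem : x * x * (y * y) ∈ ({x * x, y * y, x * y * (x * y)} : Set X) := by
        rw [hthree.2]
        refine ⟨mul_mem (hF.sq x) (hF.sq y), fun h => hne_xy ?_⟩
        rw [eq_inv_of_mul_eq_one_left (Set.mem_singleton_iff.mp h),
          inv_eq_of_mul_eq_one_right (hF.elem _ (hF.sq y))]
      rcases hmem with h | h | h
      · exact absurd (mul_eq_left.mp h) (hsq1 y hy)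
      · exact absurd (mul_eq_right.mp h) (hsq1 x hx)
      · exact h
    have hcomm1 : ⁅x⁻¹, y⁆ = 1 := by
      have := hF.sq_mul x y
      rw [← hprod] at this
      exact mul_eq_left.mp this.symm
    have hxyc : x * y = y * x := by
      have := commutatorElement_eq_one_iff_mul_comm.mp hcomm1
      calc x * y = x * (y * x⁻¹) * x := by group
        _ = y * x := by rw [← this]; group
    obtain ⟨a, b, hab⟩ := hS.na
    exact hab (hF.commute_of_closure hxyc hgen a b)
  have hX64 : Nat.card X = 64 := by rw [← Φ.card_mul_index, h4, hidx16]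
  have hinvol : ∀ x : X, orderOf x = 2 → x ∈ Φ := fun x hx =>
    hF.mem_of_sq hS h4 (by rw [← pow_two, ← hx, pow_orderOf_eq_one])
  -- the derived subgroup is the whole of `Φ`
  have hcomΦ : commutator X ≤ Φ := by
    rw [commutator_def, Subgroup.commutator_le]; exact fun a _ b _ => hF.comm a b
  have hcom4 : commutator X = Φ := by
    refine Subgroup.eq_of_le_of_card_ge hcomΦ ?_
    rw [h4]
    by_contra hlt
    have hfix : ∀ (φ : MulAut X), φ ∈ A → ∀ c ∈ commutator X, φ c = c := by
      intro φ hφ c hc
      obtain ⟨j, hj⟩ := IsPGroup.iff_card.mp (hS.two.to_subgroup (commutator X))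
      have hj2 : Nat.card (commutator X) ≤ 2 := by
        rw [hj] at hlt ⊢
        have : j < 2 := (Nat.pow_lt_pow_iff_right (by norm_num : 1 < 2)).mp (by norm_num; omega)
        interval_cases j <;> norm_num
      by_cases hc1 : c = 1
      · rw [hc1, map_one]
      have hφc : φ c ∈ commutator X :=
        Subgroup.characteristic_iff_le_comap.mp inferInstance φ hc
      by_contra hne
      have h3 : ({1, c, φ c} : Finset X) ⊆ Finset.univ.filter (· ∈ commutator X) := by
        intro w hw
        simp only [Finset.mem_insert, Finset.mem_singleton] at hw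
        simp only [Finset.mem_filter, Finset.mem_univ, true_and]
        rcases hw with rfl | rfl | rfl
        exacts [one_mem _, hc, hφc]
      have h3c : ({1, c, φ c} : Finset X).card = 3 := by
        have n1 : φ c ≠ 1 := fun h => hc1 (φ.injective (h.trans (map_one φ).symm))
        simp [Ne.symm hc1, n1.symm, Ne.symm hne]
      have h6 := Finset.card_le_card h3
      rw [h3c, ← Nat.subtype_card (p := (· ∈ commutator X)) _ (fun w => by simp)] at h6
      omega
    have hle : Φ ≤ commutator X := hF.least _ hcomΦ fun x => by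
      haveI : (commutator X).Normal := inferInstance
      letI : CommGroup (X ⧸ commutator X) := { (inferInstance : Group (X ⧸ commutator X)) with
        mul_comm := fun a b => by
          obtain ⟨a, rfl⟩ := QuotientGroup.mk'_surjective (commutator X) a
          obtain ⟨b, rfl⟩ := QuotientGroup.mk'_surjective (commutator X) b
          rw [← commutatorElement_eq_one_iff_mul_comm, ← map_commutatorElement]
          exact (QuotientGroup.eq_one_iff _).mpr
            (Subgroup.commutator_mem_commutator (Subgroup.mem_top a) (Subgroup.mem_top b)) }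
      let g : X →* X ⧸ commutator X :=
        (powMonoidHom 2).comp (QuotientGroup.mk' (commutator X))
      have hg : g x = 1 := hS.hom_eq_one g fun φ hφ => by
        -- the class of a square is fixed, the quotient of `Φ` by the derived subgroup being of order two
        show (QuotientGroup.mk' (commutator X) (φ x)) ^ 2 = (QuotientGroup.mk' (commutator X) x) ^ 2
        rw [← map_pow, ← map_pow, ← map_pow, pow_two]
        refine QuotientGroup.eq.mpr ?_
        by_contra hne
        obtain ⟨c, hc, hc1⟩ : ∃ c ∈ commutator X, c ≠ 1 := by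
          obtain ⟨a, b, hab⟩ := hS.na
          exact ⟨⁅a, b⁆, Subgroup.commutator_mem_commutator (Subgroup.mem_top a) (Subgroup.mem_top b),
            fun h => hab (commutatorElement_eq_one_iff_mul_comm.mp h)⟩
        have hd : x * x ∈ Φ := hF.sq x
        have hφd : φ (x * x) ∈ Φ := hinv φ hd
        have hdc : x * x ∉ commutator X := fun h => hne (by
          rw [hfix φ hφ _ h, inv_mul_cancel]; exact one_mem _)
        have hd1 : x * x ≠ 1 := fun h => hdc (h ▸ one_mem _)
        have hφdc : φ (x * x) ∉ commutator X := fun h => hdc (by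
          have h1 := Subgroup.characteristic_iff_le_comap.mp
            (inferInstance : (commutator X).Characteristic) φ⁻¹ h
          rw [Subgroup.mem_comap] at h1
          simpa using h1)
        have h5 : ({1, c, x * x, x * x * c, φ (x * x)} : Finset X) ⊆ Finset.univ.filter (· ∈ Φ) := by
          intro w hw
          simp only [Finset.mem_insert, Finset.mem_singleton] at hw
          simp only [Finset.mem_filter, Finset.mem_univ, true_and]
          rcases hw with rfl | rfl | rfl | rfl | rfl
          exacts [one_mem _, hcomΦ hc, hd, mul_mem hd (hcomΦ hc), hφd]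
        have h5c : ({1, c, x * x, x * x * c, φ (x * x)} : Finset X).card = 5 := by
          have m1 : (1 : X) ≠ x * x * c := fun h => hdc (by
            rw [eq_inv_of_mul_eq_one_left h.symm]; exact inv_mem hc)
          have m2 : (1 : X) ≠ φ (x * x) := fun h => hφdc (h ▸ one_mem _)
          have m3 : c ≠ x * x := fun h => hdc (h ▸ hc)
          have m4 : c ≠ x * x * c := fun h => hd1 (mul_eq_right.mp h.symm)
          have m5 : c ≠ φ (x * x) := fun h => hφdc (h ▸ hc)
          have m6 : x * x ≠ x * x * c := fun h => hc1 (mul_eq_left.mp h.symm)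
          have m7 : x * x ≠ φ (x * x) := fun h => hne (by rw [← h, inv_mul_cancel]; exact one_mem _)
          have m8 : x * x * c ≠ φ (x * x) := fun h => hne (by
            rw [← h, mul_inv_rev, mul_assoc, inv_mul_cancel, mul_one]; exact inv_mem hc)
          rw [Finset.card_insert_of_notMem, Finset.card_insert_of_notMem, Finset.card_insert_of_notMem,
            Finset.card_pair m8] <;> simp only [Finset.mem_insert, Finset.mem_singleton, not_or]
          exacts [⟨m6, m7⟩, ⟨m3, m4, m5⟩, ⟨Ne.symm hc1, hd1.symm, m1, m2⟩]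
        have h6 := Finset.card_le_card h5
        rw [h5c, ← Nat.subtype_card (p := (· ∈ Φ)) _ (fun w => by simp)] at h6
        omega
      rw [← QuotientGroup.eq_one_iff]
      rw [show ((x * x : X) : X ⧸ commutator X) = g x by
        show _ = (QuotientGroup.mk' (commutator X) x) ^ 2
        rw [← map_pow, pow_two]; rfl]
      exact hg
    have := Subgroup.card_le_of_le hle
    omega
  have hcen : Subgroup.center X = Φ := by
    refine le_antisymm (fun c hc => ?_) fun u hu => Subgroup.mem_center_iff.mpr (hF.central u hu)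
    by_contra hcΦ
    have hcinv : ∀ φ : MulAut X, φ c ∈ Subgroup.center X := fun φ =>
      Subgroup.mem_center_iff.mpr fun g => by
        have := congrArg φ (Subgroup.mem_center_iff.mp hc (φ⁻¹ g))
        simpa using this
    obtain ⟨φ, hφ, hmv⟩ : ∃ φ ∈ A, c⁻¹ * φ c ∉ Φ := by
      by_contra h
      push Not at h
      exact hcΦ (hF.mem_of_fixed hS le_rfl h)
    -- two independent central cosets
    set Z := Subgroup.center X
    have hΦZ : Φ ≤ Z := fun u hu => Subgroup.mem_center_iff.mpr (hF.central u hu)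
    have hidx : Z.index ≤ 4 := by
      have h1 := Subgroup.relIndex_mul_index hΦZ
      rw [hidx16] at h1
      have h3 : 3 ≤ Φ.relIndex Z := by
        let T : Finset (Z ⧸ Φ.subgroupOf Z) :=
          {((1 : Z) : Z ⧸ Φ.subgroupOf Z), ((⟨c, hc⟩ : Z) : Z ⧸ Φ.subgroupOf Z),
            ((⟨φ c, hcinv φ⟩ : Z) : Z ⧸ Φ.subgroupOf Z)}
        have hT : T.card = 3 := by
          have t1 : ((1 : Z) : Z ⧸ Φ.subgroupOf Z) ≠ ((⟨c, hc⟩ : Z) : Z ⧸ Φ.subgroupOf Z) := fun h =>
            hcΦ (by simpa [Subgroup.mem_subgroupOf] using QuotientGroup.eq.mp h)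
          have t2 : ((1 : Z) : Z ⧸ Φ.subgroupOf Z) ≠ ((⟨φ c, hcinv φ⟩ : Z) : Z ⧸ Φ.subgroupOf Z) :=
            fun h => hcΦ (by
              have h' : φ c ∈ Φ := by simpa [Subgroup.mem_subgroupOf] using QuotientGroup.eq.mp h
              simpa using hinv φ⁻¹ h')
          have t3 : ((⟨c, hc⟩ : Z) : Z ⧸ Φ.subgroupOf Z) ≠ ((⟨φ c, hcinv φ⟩ : Z) : Z ⧸ Φ.subgroupOf Z) :=
            fun h => hmv (by simpa [Subgroup.mem_subgroupOf] using QuotientGroup.eq.mp h)
          simp only [T]
          rw [Finset.card_insert_of_notMem (by simp [t1, t2]; exact ⟨t1, t2⟩),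
            Finset.card_pair t3]
        rw [Subgroup.relIndex, Subgroup.index_eq_card, ← hT, ← Nat.card_eq_finsetCard]
        exact Nat.card_le_card_of_injective Subtype.val Subtype.val_injective
      have h5 : Z.index ≤ 5 := by nlinarith
      interval_cases hzi : Z.index <;> omega
    -- the group is then generated by two elements modulo the centre
    obtain ⟨a, b, hab⟩ := hS.na
    have haZ : a ∉ Z := fun h => hab (Subgroup.mem_center_iff.mp h b).symm
    have hbZ : b ∉ Z := fun h => hab (Subgroup.mem_center_iff.mp h a)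
    set N := Subgroup.zpowers ⁅a, b⁆
    have hNΦ : N ≤ Φ := Subgroup.zpowers_le.mpr (hF.comm a b)
    haveI : N.Normal := ⟨fun n hn g => by rwa [hF.central n (hNΦ hn) g, mul_inv_cancel_right]⟩
    set H : Subgroup X := Z ⊔ Subgroup.closure {a, b}
    have hHtop : H = ⊤ := by
      by_contra hne
      have hlt : H.index ≠ 1 := fun h => hne (Subgroup.index_eq_one.mp h)
      obtain ⟨i, hi⟩ := hS.two.index H
      have hmul := Subgroup.relIndex_mul_index (show Z ≤ H from le_sup_left)
      have hrel : 3 ≤ Z.relIndex H := by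
        let T : Finset (H ⧸ Z.subgroupOf H) :=
          {((1 : H) : H ⧸ Z.subgroupOf H),
            ((⟨a, Subgroup.mem_sup_right (Subgroup.subset_closure (by simp))⟩ : H) : H ⧸ Z.subgroupOf H),
            ((⟨b, Subgroup.mem_sup_right (Subgroup.subset_closure (by simp))⟩ : H) : H ⧸ Z.subgroupOf H)}
        have hT : T.card = 3 := by
          simp only [T]
          rw [Finset.card_insert_of_notMem, Finset.card_pair]
          · intro h
            have h' : a⁻¹ * b ∈ Z := by simpa [Subgroup.mem_subgroupOf] using QuotientGroup.eq.mp h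
            refine hab ?_
            calc a * b = a * (a * (a⁻¹ * b)) := by group
              _ = a * ((a⁻¹ * b) * a) := by rw [Subgroup.mem_center_iff.mp h' a]
              _ = b * a := by group
          · simp only [Finset.mem_insert, Finset.mem_singleton, not_or]
            exact ⟨fun h => haZ (by simpa [Subgroup.mem_subgroupOf] using QuotientGroup.eq.mp h),
              fun h => hbZ (by simpa [Subgroup.mem_subgroupOf] using QuotientGroup.eq.mp h)⟩
        rw [Subgroup.relIndex, Subgroup.index_eq_card, ← hT, ← Nat.card_eq_finsetCard]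
        exact Nat.card_le_card_of_injective Subtype.val Subtype.val_injective
      have : 2 ≤ H.index := by
        have := Nat.pos_of_ne_zero (Subgroup.index_ne_zero_of_finite (H := H))
        omega
      nlinarith
    have hHle : commutator X ≤ N := by
      rw [commutator_def, Subgroup.commutator_le]
      have hctr : ∀ g ∈ ({a, b} : Set X), ∀ w : X, ⁅g, w⁆ ∈ N := by
        intro g hg
        let K : Subgroup X :=
          { carrier := {w | ⁅g, w⁆ ∈ N}
            one_mem' := by simp
            mul_mem' := fun {u v} (hu : ⁅g, u⁆ ∈ N) (hv : ⁅g, v⁆ ∈ N) => by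
              show ⁅g, u * v⁆ ∈ N
              rw [show ⁅g, u * v⁆ = ⁅g, u⁆ * (u * ⁅g, v⁆ * u⁻¹) by
                simp only [commutatorElement_def]; group]
              exact mul_mem hu (Subgroup.Normal.conj_mem inferInstance _ hv u)
            inv_mem' := fun {u} (hu : ⁅g, u⁆ ∈ N) => by
              show ⁅g, u⁻¹⁆ ∈ N
              rw [show ⁅g, u⁻¹⁆ = u⁻¹ * ⁅g, u⁆⁻¹ * u⁻¹⁻¹ by simp only [commutatorElement_def]; group]
              exact Subgroup.Normal.conj_mem inferInstance _ (inv_mem hu) u⁻¹ }
        have hK : H ≤ K := sup_le (fun u hu => by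
            show ⁅g, u⁆ ∈ N
            rw [commutatorElement_eq_one_iff_mul_comm.mpr (Subgroup.mem_center_iff.mp hu g)]
            exact one_mem N)
          ((Subgroup.closure_le K).mpr (by
            intro u hu
            show ⁅g, u⁆ ∈ N
            rcases hg with rfl | rfl <;> rcases hu with rfl | rfl
            · simp
            · exact Subgroup.mem_zpowers _
            · rw [← commutatorElement_inv]; exact inv_mem (Subgroup.mem_zpowers _)
            · simp))
        exact fun w => hK (hHtop ▸ Subgroup.mem_top w)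
      intro u _ w _
      let K' : Subgroup X :=
        { carrier := {v | ∀ w : X, ⁅v, w⁆ ∈ N}
          one_mem' := fun w => by simp
          mul_mem' := fun {u v} hu hv w => by
            rw [show ⁅u * v, w⁆ = u * ⁅v, w⁆ * u⁻¹ * ⁅u, w⁆ by simp only [commutatorElement_def]; group]
            exact mul_mem (Subgroup.Normal.conj_mem inferInstance _ (hv w) u) (hu w)
          inv_mem' := fun {u} hu w => by
            rw [show ⁅u⁻¹, w⁆ = u⁻¹ * ⁅u, w⁆⁻¹ * u⁻¹⁻¹ by simp only [commutatorElement_def]; group]
            exact Subgroup.Normal.conj_mem inferInstance _ (inv_mem (hu w)) u⁻¹ }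
      have hK' : H ≤ K' := sup_le (fun v hv w => by
          rw [commutatorElement_eq_one_iff_mul_comm.mpr (Subgroup.mem_center_iff.mp hv w).symm]
          exact one_mem N)
        ((Subgroup.closure_le K').mpr fun v hv => hctr v hv)
      exact hK' (hHtop ▸ Subgroup.mem_top u) w
    have h1 := Subgroup.card_le_of_le hHle
    rw [hcom4, h4, Nat.card_zpowers] at h1
    have : orderOf ⁅a, b⁆ ∣ 2 := orderOf_dvd_of_pow_eq_one (by rw [pow_two, hF.elem _ (hF.comm a b)])
    have := Nat.le_of_dvd (by norm_num) this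
    omega
  refine ⟨⟨hS.two, hΦ ▸ hcen.symm, hcom4.trans hcen.symm⟩, hX64, ?_, fun x hx => ?_⟩
  · rw [Nat.card_congr (Equiv.subtypeEquivRight (q := fun x => x ∈ (Φ : Set X) \ {1}) fun x => ?_)]
    · rw [Nat.card_coe_set_eq, Set.ncard_sdiff_singleton_of_mem Φ.one_mem, ← Nat.card_coe_set_eq]
      have : Nat.card (Φ : Set X) = 4 := h4
      omega
    · constructor
      · exact fun hx => ⟨hinvol x hx, fun h => by
          rw [Set.mem_singleton_iff.mp h, orderOf_one] at hx; omega⟩
      · rintro ⟨hxΦ, hx1⟩
        exact orderOf_eq_prime (by rw [pow_two]; exact hF.elem x hxΦ) hx1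
  · rw [hcen]; exact hinvol x hx

/-- The three outcomes. -/
theorem classify_flat (Z : Subgroup X) (hZc : Z ≤ Subgroup.center X) (hZe : ∀ z ∈ Z, z * z = 1)
    (hsq : ∀ x : X, x * x ∈ Z) :
    Nonempty (X ≃* QuaternionGroup 2) ∨
      (Cfsg.IsSpecial 2 X ∧ Nat.card X = 64 ∧ Nat.card {x : X // orderOf x = 2} = 3 ∧
        ∀ x : X, orderOf x = 2 → x ∈ Subgroup.center X) ∨
      (Cfsg.IsExtraspecial 2 X ∧ Nat.card X = 32 ∧ Nat.card {x : X // orderOf x = 2} = 11) := by
  have hF := flat_frattini hS Z hZc hZe hsq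
  rcases hF.card_cases hS with h | h
  · rcases extraspecial_or_quaternion hS hF rfl h with h' | h'
    · exact Or.inl h'
    · exact Or.inr (Or.inr h')
  · exact Or.inr (Or.inl (special_sixtyfour hS hF rfl h))

end Cfsg.Agent.Lib.NoSCNThree
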