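import Cfsg.Agent.Lib.NoSCNThree.Abelian

/-!
A self-centralising homocyclic characteristic subgroup of rank two, moved fixed-point-freely.
-/

set_option autoImplicit false
set_option linter.unusedSectionVars false

open scoped commutatorElement

namespace Cfsg.Agent.Lib.NoSCNThree

variable {X : Type*} [Group X] [Finite X]

/-- The data: `D` has exponent dividing `2 ^ e`, with four square roots of one, all central and
`2 ^ (e - 1)`-th powers, permuted without fixed points by `a`. -/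
structure Homocyclic (A : Subgroup (MulAut X)) (D : Subgroup X) (a : MulAut X) (e : ℕ) : Prop where
  ab : AbChar D
  amem : a ∈ A
  fpf : ∀ i ∈ omega D, a i = i → i = 1
  inv : ∃ i ∈ omega D, i ≠ 1
  central : ∀ i ∈ omega D, ∀ g : X, g * i = i * g
  exp : ∀ d ∈ D, d ^ (2 ^ e) = 1
  onto : ∀ i ∈ omega D, ∃ r ∈ D, r ^ (2 ^ (e - 1)) = i
  two_le : 2 ≤ e

variable {A : Subgroup (MulAut X)} {D : Subgroup X} {a : MulAut X} {e : ℕ}

theorem Homocyclic.pow_mem_omega (h : Homocyclic A D a e) {d : X} (hd : d ∈ D) :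
    d ^ (2 ^ (e - 1)) ∈ omega D := by
  refine h.ab.mem_omega.mpr ⟨pow_mem hd _, ?_⟩
  rw [← pow_add, ← two_mul, ← pow_succ', Nat.sub_add_cancel (by linarith [h.two_le] : 1 ≤ e),
    h.exp d hd]

theorem Homocyclic.mul_pow' (h : Homocyclic A D a e) {u v : X} (hu : u ∈ D) (hv : v ∈ D) (n : ℕ) :
    (u * v) ^ n = u ^ n * v ^ n :=
  (show Commute u v from h.ab.comm u hu v hv).mul_pow n

/-- An element killed by the power map is a square. -/
theorem Homocyclic.exists_sqrt (h : Homocyclic A D a e) {d : X} (hd : d ∈ D)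
    (hp : d ^ (2 ^ (e - 1)) = 1) : ∃ r ∈ D, r * r = d := by
  suffices key : ∀ k, k ≤ e - 1 → ∀ d ∈ D, d ^ (2 ^ k) = 1 → ∃ r ∈ D, r * r = d from
    key (e - 1) le_rfl d hd hp
  intro k
  induction k with
  | zero =>
    intro _ d _ hk
    exact ⟨1, one_mem D, by rw [pow_zero, pow_one] at hk; rw [hk, one_mul]⟩
  | succ k ih =>
    intro hk d hd hdk
    have hi : d ^ (2 ^ k) ∈ omega D := h.ab.mem_omega.mpr
      ⟨pow_mem hd _, by rw [← pow_add, ← two_mul, ← pow_succ', hdk]⟩
    obtain ⟨r, hr, hri⟩ := h.onto _ hi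
    obtain ⟨m, hm⟩ : ∃ m, e - 1 = m + 1 + k := ⟨e - 1 - (k + 1), by omega⟩
    set u := r ^ (2 ^ (m + 1)) with hu
    have huD : u ∈ D := pow_mem hr _
    have huk : u ^ (2 ^ k) = d ^ (2 ^ k) := by rw [hu, ← pow_mul, ← pow_add, ← hm, hri]
    obtain ⟨s, hs, hsd⟩ := ih (by omega) (d * u⁻¹) (mul_mem hd (inv_mem huD))
      (by rw [h.mul_pow' hd (inv_mem huD), inv_pow, huk, mul_inv_cancel])
    refine ⟨s * r ^ (2 ^ m), mul_mem hs (pow_mem hr _), ?_⟩
    have hc := h.ab.comm (r ^ (2 ^ m)) (pow_mem hr _) s hs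
    calc s * r ^ (2 ^ m) * (s * r ^ (2 ^ m)) = s * (r ^ (2 ^ m) * s) * r ^ (2 ^ m) := by group
      _ = s * (s * r ^ (2 ^ m)) * r ^ (2 ^ m) := by rw [hc]
      _ = (s * s) * (r ^ (2 ^ m) * r ^ (2 ^ m)) := by group
      _ = d := by rw [hsd, ← pow_add, ← two_mul, ← pow_succ', ← hu, inv_mul_cancel_right]

theorem Homocyclic.pow_conj (h : Homocyclic A D a e) (g : X) {d : X} (hd : d ∈ D) :
    (g * d * g⁻¹) ^ (2 ^ (e - 1)) = d ^ (2 ^ (e - 1)) := by
  rw [conj_pow, h.central _ (h.pow_mem_omega hd), mul_inv_cancel_right]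

theorem Homocyclic.pow_comm (h : Homocyclic A D a e) (x : X) {d : X} (hd : d ∈ D) :
    ⁅x, d⁆ ^ (2 ^ (e - 1)) = 1 := by
  rw [commutatorElement_def, h.mul_pow' (h.ab.conj_mem hd x) (inv_mem hd), h.pow_conj x hd, inv_pow,
    mul_inv_cancel]

theorem Homocyclic.comm_omega (h : Homocyclic A D a e) (x : X) {i : X} (hi : i ∈ omega D) :
    ⁅x, i⁆ = 1 :=
  commutatorElement_eq_one_iff_mul_comm.mpr (h.central i hi x)

variable (hS : Setting X A)

include hS

theorem Homocyclic.a_sq (h : Homocyclic A D a e) {i : X} (hi : i ∈ omega D) (hi1 : i ≠ 1) :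
    a (a i) = i * a i ∧ i ≠ a i ∧ a i ≠ 1 := by
  have hne : i ≠ a i := fun hh => hi1 (h.fpf i hi hh.symm)
  have ha1 : a i ≠ 1 := fun hh => hi1 (a.injective (hh.trans (map_one a).symm))
  refine ⟨?_, hne, ha1⟩
  rcases h.ab.omega_cases hS hi (h.ab.omega_map a hi) hi1 ha1 hne
      (h.ab.omega_map a (h.ab.omega_map a hi)) with hh | hh | hh | hh
  · exact absurd (a.injective (hh.trans (map_one a).symm)) ha1
  · exact absurd (hS.fix_of_sq_fix h.amem hh).symm hne
  · exact absurd (a.injective hh).symm hne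
  · exact hh

theorem Homocyclic.cases' (h : Homocyclic A D a e) {i : X} (hi : i ∈ omega D) (hi1 : i ≠ 1) {t : X}
    (ht : t ∈ omega D) : t = 1 ∨ t = i ∨ t = a i ∨ t = i * a i :=
  h.ab.omega_cases hS hi (h.ab.omega_map a hi) hi1 (h.a_sq hS hi hi1).2.2 (h.a_sq hS hi hi1).2.1 ht

theorem Homocyclic.a_cube (h : Homocyclic A D a e) {i : X} (hi : i ∈ omega D) : a (a (a i)) = i := by
  by_cases hi1 : i = 1
  · simp [hi1]
  obtain ⟨h2, -, -⟩ := h.a_sq hS hi hi1
  rw [h2, map_mul, h2, ← mul_assoc, h.central i hi (a i), mul_assoc,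
    h.ab.omega_sq _ (h.ab.omega_map a hi), mul_one]

theorem Homocyclic.card_three (h : Homocyclic A D a e) : 3 ≤ Nat.card (omega D) := by
  classical
  haveI : Fintype X := Fintype.ofFinite X
  obtain ⟨i, hi, hi1⟩ := h.inv
  obtain ⟨-, hne, ha1⟩ := h.a_sq hS hi hi1
  have hsub : ({1, i, a i} : Finset X) ⊆ Finset.univ.filter (· ∈ omega D) := by
    intro w hw
    simp only [Finset.mem_insert, Finset.mem_singleton] at hw
    simp only [Finset.mem_filter, Finset.mem_univ, true_and]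
    rcases hw with rfl | rfl | rfl
    exacts [one_mem _, hi, h.ab.omega_map a hi]
  have h3 : ({1, i, a i} : Finset X).card = 3 := by simp [Ne.symm hi1, Ne.symm ha1, hne]
  have h6 := Finset.card_le_card hsub
  rwa [h3, ← Nat.subtype_card (p := (· ∈ omega D)) _ (fun w => by simp)] at h6

/-- An involution that is central modulo the four roots of one lies among them. -/
theorem Homocyclic.no_inv (h : Homocyclic A D a e) {x : X} (hx : x * x = 1)
    (hc : ∀ g, ⁅x, g⁆ ∈ omega D) : x ∈ omega D := by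
  by_contra hn
  have h1 := hS.card_extend h.ab.omega_sq hx (fun n hn => h.central n hn x) h.ab.omega_normal hc hn
  have h3 := h.card_three hS
  omega

/-- An involution commuting with `D` and central modulo `D` lies in `D`. -/
theorem Homocyclic.mem_of_inv (h : Homocyclic A D a e) {x : X} (hx : x * x = 1)
    (hxD : ∀ d ∈ D, x * d = d * x) (hc : ∀ g, ⁅x, g⁆ ∈ D) : x ∈ D := by
  refine (h.ab.mem_omega.mp (h.no_inv hS hx fun g => h.ab.mem_omega.mpr ⟨hc g, ?_⟩)).1
  have hxi : x⁻¹ = x := inv_eq_of_mul_eq_one_right hx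
  have key : ∀ t : X, x * t = t * x → x * t * (x * t) = t * t := fun t ht => by
    calc x * t * (x * t) = x * (t * x) * t := by group
      _ = x * (x * t) * t := by rw [ht]
      _ = x * x * (t * t) := by group
      _ = t * t := by rw [hx, one_mul]
  rw [← key _ (hxD _ (hc g))]
  have e1 : x * ⁅x, g⁆ = g * x * g⁻¹ := by
    rw [commutatorElement_def, hxi, show x * (x * g * x * g⁻¹) = x * x * g * x * g⁻¹ by group, hx,
      one_mul]
  rw [e1, show g * x * g⁻¹ * (g * x * g⁻¹) = g * (x * x) * g⁻¹ by group, hx, mul_one, mul_inv_cancel]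

/-- The automorphisms act on the roots of one as powers of `a`. -/
theorem Homocyclic.act_cases (h : Homocyclic A D a e) {φ : MulAut X} (hφ : φ ∈ A) :
    (∀ t ∈ omega D, φ t = t) ∨ (∀ t ∈ omega D, φ t = a t) ∨ (∀ t ∈ omega D, φ t = a (a t)) := by
  obtain ⟨i, hi, hi1⟩ := h.inv
  have hinv : ∀ ψ : MulAut X, ∀ t : X, ψ⁻¹ (ψ t) = t := fun ψ t => ψ.symm_apply_apply t
  rcases h.cases' hS hi hi1 (h.ab.omega_map φ hi) with hh | hh | hh | hh
  · exact absurd (φ.injective (hh.trans (map_one φ).symm)) hi1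
  · exact Or.inl fun t ht => h.ab.fix_omega hS hφ hi hi1 hh ht
  · refine Or.inr (Or.inl fun t ht => ?_)
    have h1 := h.ab.fix_omega hS (mul_mem (inv_mem h.amem) hφ) hi hi1
      (by rw [MulAut.mul_apply, hh, hinv]) ht
    rw [MulAut.mul_apply] at h1
    exact (congrArg a h1 ▸ (a.apply_symm_apply (φ t)).symm : φ t = a t)
  · refine Or.inr (Or.inr fun t ht => ?_)
    have h1 := h.ab.fix_omega hS (mul_mem (inv_mem (mul_mem h.amem h.amem)) hφ) hi hi1
      (by rw [MulAut.mul_apply, hh, ← (h.a_sq hS hi hi1).1]; exact hinv (a * a) i) ht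
    rw [MulAut.mul_apply] at h1
    have h2 := congrArg (a * a) h1
    rwa [show (a * a) ((a * a)⁻¹ (φ t)) = φ t from (a * a).apply_symm_apply _,
      MulAut.mul_apply] at h2

end Cfsg.Agent.Lib.NoSCNThree
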