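import Cfsg.Agent.Lib.NoSCNThree.Core
import Cfsg.Agent.Lib.PGroup.Critical

/-!
Exponent at least eight is impossible.
-/

set_option autoImplicit false
set_option linter.unusedSectionVars false

open scoped commutatorElement

namespace Cfsg.Agent.Lib.NoSCNThree

variable {X : Type*} [Group X] [Finite X] {A : Subgroup (MulAut X)} {D : Subgroup X} {a : MulAut X}
  {e : ℕ} (hS : Setting X A)

include hS

theorem Homocyclic.no_tame_deep (h : Homocyclic A D a e) (he : 3 ≤ e)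
    (hself : ∀ x : X, (∀ d ∈ D, x * d = d * x) → x ∈ D)
    (hT : ∀ x : X, (∀ d ∈ D, ⁅x, d⁆ ∈ omega D) → x ∈ D) : False := by
  classical
  haveI hDn : D.Normal := h.ab.normal
  obtain ⟨f, rfl⟩ : ∃ f, e = f + 3 := ⟨e - 3, by omega⟩
  have hs : ∀ x : X, ∀ d ∈ D, ⁅x, d⁆ ∈ D := fun x d hd => h.ab.comm_mem hd x
  have hpc : ∀ x : X, ∀ d ∈ D, ⁅x, d⁆ ^ (2 ^ (f + 2)) = 1 := fun x d hd => h.pow_comm x hd
  -- a commutator of a power lying among the roots of one
  have hskill : ∀ x : X, ∀ t ∈ D, ∀ n : ℕ, t ^ n ∈ omega D → ⁅x, t⁆ ^ n = 1 := fun x t ht n hn => by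
    rw [← h.ab.comm_pow x ht, h.comm_omega x hn]
  have hroot : ∀ d ∈ D, d ^ (2 ^ (f + 1)) = 1 → ∃ r ∈ D, r ^ 4 = d := by
    intro d hd hdp
    obtain ⟨s, hsD, hsd⟩ := h.exists_sqrt hd (show d ^ (2 ^ (f + 2)) = 1 by
      rw [pow_succ, pow_mul, hdp, one_pow])
    obtain ⟨r, hr, hrs⟩ := h.exists_sqrt hsD (show s ^ (2 ^ (f + 2)) = 1 by
      rw [pow_succ', pow_mul, pow_two, hsd, hdp])
    exact ⟨r, hr, by rw [← hsd, ← hrs]; simp [pow_succ, mul_assoc]⟩
  have hQ : ∀ m, m ≤ f + 1 → ∀ x : X, (∀ d ∈ D, ⁅x, d⁆ ^ (2 ^ m) = 1) → x ∈ D := by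
    intro m
    induction m with
    | zero => exact fun _ x hx => hself x fun d hd =>
        commutatorElement_eq_one_iff_mul_comm.mp (by simpa using hx d hd)
    | succ m ih =>
      intro hm x hx
      rcases Nat.eq_zero_or_pos m with rfl | hmpos
      · exact hT x fun d hd => h.ab.mem_omega.mpr ⟨hs x d hd, by
          have := hx d hd
          rwa [zero_add, pow_one, pow_two] at this⟩
      obtain ⟨k, rfl⟩ : ∃ k, m = k + 1 := ⟨m - 1, by omega⟩
      -- the square centralises `D`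
      have hx2 : x * x ∈ D := by
        refine ih (by omega) _ fun d hd => ?_
        rw [h.ab.comm_left x x hd,
          h.mul_pow' (mul_mem (hs _ _ (hs x d hd)) (hs x d hd)) (hs x d hd),
          h.mul_pow' (hs _ _ (hs x d hd)) (hs x d hd)]
        have h1 : ⁅x, ⁅x, d⁆⁆ ^ (2 ^ (k + 1)) = 1 := by
          refine hskill x _ (hs x d hd) _ (h.ab.mem_omega.mpr ⟨pow_mem (hs x d hd) _, ?_⟩)
          rw [← pow_add, ← two_mul, ← pow_succ', hx d hd]
        rw [h1, one_mul, ← pow_add, ← two_mul, ← pow_succ', hx d hd]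
      refine ih (by omega) x fun d hd => ?_
      obtain ⟨r, hr, hrd⟩ := hroot _ (hs x d hd) (by
        obtain ⟨q, hq⟩ := Nat.exists_eq_add_of_le hm
        rw [hq, pow_add, pow_mul, hx d hd, one_pow])
      have hsr := hs x r hr
      have h2 : ⁅x, r⁆ ^ 4 * (⁅x, d⁆ * ⁅x, d⁆) = 1 := by
        have := h.ab.comm_left x x hd
        rw [commutatorElement_eq_one_iff_mul_comm.mpr (h.ab.comm _ hx2 d hd), mul_assoc] at this
        rw [← h.ab.comm_pow x hr, hrd]
        exact this.symm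
      rw [pow_succ', pow_mul, pow_two, eq_inv_of_mul_eq_one_right h2, inv_pow, ← pow_mul, inv_eq_one,
        show 4 * 2 ^ k = 2 ^ (k + 1 + 1) by rw [pow_succ, pow_succ]; ring]
      exact hx r hr
  -- the induced maps on the roots of one
  let n : X → X → X := fun x i =>
    if hi : i ∈ omega D then ⁅x, (h.onto i hi).choose⁆ ^ (2 ^ (f + 1)) else 1
  have hn : ∀ x : X, ∀ d ∈ D, n x (d ^ (2 ^ (f + 2))) = ⁅x, d⁆ ^ (2 ^ (f + 1)) := by
    intro x d hd
    have hi := h.pow_mem_omega hd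
    have hi' : d ^ (2 ^ (f + 2)) ∈ omega D := hi
    simp only [n, dif_pos hi']
    obtain ⟨hc, hcp⟩ := (h.onto _ hi').choose_spec
    set c := (h.onto _ hi').choose
    have hcp' : c ^ (2 ^ (f + 2)) = d ^ (2 ^ (f + 2)) := hcp
    obtain ⟨r, hr, hrr⟩ := h.exists_sqrt (mul_mem (inv_mem hd) hc) (show (d⁻¹ * c) ^ (2 ^ (f + 2)) = 1 by
      rw [h.mul_pow' (inv_mem hd) hc, inv_pow, hcp', inv_mul_cancel])
    rw [show c = d * (r * r) by rw [hrr, mul_inv_cancel_left], h.ab.comm_mul x hd (mul_mem hr hr),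
      h.mul_pow' (hs x d hd) (hs x _ (mul_mem hr hr)), h.ab.comm_mul x hr hr, ← pow_two, ← pow_mul,
      ← pow_succ', hpc x r hr, mul_one]
  have honto : ∀ i ∈ omega D, ∃ d ∈ D, d ^ (2 ^ (f + 2)) = i := h.onto
  have hnΩ : ∀ x : X, ∀ i ∈ omega D, n x i ∈ omega D := by
    intro x i hi
    obtain ⟨d, hd, rfl⟩ := honto i hi
    rw [hn x d hd]
    exact h.ab.mem_omega.mpr ⟨pow_mem (hs x d hd) _, by
      rw [← pow_add, ← two_mul, ← pow_succ', hpc x d hd]⟩
  have hninv : ∀ x : X, ∀ i ∈ omega D, n x i * n x i = 1 := fun x i hi =>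
    h.ab.omega_sq _ (hnΩ x i hi)
  have hnmul : ∀ x : X, ∀ i ∈ omega D, ∀ j ∈ omega D, n x (i * j) = n x i * n x j := by
    intro x i hi j hj
    obtain ⟨d, hd, rfl⟩ := honto i hi
    obtain ⟨d', hd', rfl⟩ := honto j hj
    rw [← h.mul_pow' hd hd', hn x _ (mul_mem hd hd'), hn x d hd, hn x d' hd', h.ab.comm_mul x hd hd',
      h.mul_pow' (hs x d hd) (hs x d' hd')]
  have hnadd : ∀ x y : X, ∀ i ∈ omega D, n (x * y) i = n x i * n y i := by
    intro x y i hi
    obtain ⟨d, hd, rfl⟩ := honto i hi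
    rw [hn _ d hd, hn x d hd, hn y d hd, h.ab.comm_left x y hd,
      h.mul_pow' (mul_mem (hs _ _ (hs y d hd)) (hs y d hd)) (hs x d hd),
      h.mul_pow' (hs _ _ (hs y d hd)) (hs y d hd),
      hskill x _ (hs y d hd) _ (h.ab.mem_omega.mpr ⟨pow_mem (hs y d hd) _, by
        rw [← pow_add, ← two_mul, ← pow_succ', hpc y d hd]⟩), one_mul]
    exact h.ab.comm _ (pow_mem (hs y d hd) _) _ (pow_mem (hs x d hd) _)
  have hnker : ∀ x : X, (∀ i ∈ omega D, n x i = 1) → x ∈ D := fun x hx =>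
    hQ (f + 1) le_rfl x fun d hd => by
      rw [← hn x d hd]; exact hx _ (h.pow_mem_omega hd)
  have hneq : ∀ (φ : MulAut X) (x : X), ∀ i ∈ omega D, φ (n x i) = n (φ x) (φ i) := by
    intro φ x i hi
    obtain ⟨d, hd, rfl⟩ := honto i hi
    rw [hn x d hd, map_pow, map_commutatorElement, map_pow φ d, hn _ _ (h.ab.map_mem φ hd)]
  have hsqD : ∀ x : X, x * x ∈ D := fun x => hnker _ fun i hi => by rw [hnadd x x i hi, hninv x i hi]
  have hcommD : ∀ x y : X, ⁅x, y⁆ ∈ D := fun x y =>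
    comm_mem_of_sq (Y := ⊤) (fun z _ => hsqD z) trivial trivial
  have hidem : ∀ x : X, ∀ i ∈ omega D, n x (n x i) = n x i := by
    intro x i hi
    obtain ⟨d, hd, rfl⟩ := honto i hi
    obtain ⟨t, ht, htt⟩ := h.exists_sqrt (hs x d hd) (hpc x d hd)
    have h1 : n x (n x (d ^ (2 ^ (f + 2)))) = ⁅x, t⁆ ^ (2 ^ (f + 1)) := by
      rw [hn x d hd, ← htt, ← pow_two, ← pow_mul, ← pow_succ', hn x t ht]
    have h2 : ⁅x, t⁆ * ⁅x, t⁆ * (⁅x, d⁆ * ⁅x, d⁆) = 1 := by
      have := h.ab.comm_left x x hd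
      rw [commutatorElement_eq_one_iff_mul_comm.mpr (h.ab.comm _ (hsqD x) d hd), mul_assoc] at this
      rw [← h.ab.comm_mul x ht ht, htt]
      exact this.symm
    rw [h1, pow_succ', pow_mul, pow_two, eq_inv_of_mul_eq_one_left h2, inv_pow, ← pow_two, ← pow_mul,
      ← pow_succ', inv_eq_of_mul_eq_one_right (h.ab.omega_sq _ (h.ab.mem_omega.mpr
        ⟨pow_mem (hs x d hd) _, by rw [← pow_add, ← two_mul, ← pow_succ', hpc x d hd]⟩)), hn x d hd]
  have hcomm : ∀ x y : X, ∀ i ∈ omega D, n x (n y i) = n y (n x i) := by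
    intro x y i hi
    have h1 := hidem (x * y) i hi
    rw [hnadd x y i hi, hnadd x y _ (mul_mem (hnΩ x i hi) (hnΩ y i hi)),
      hnmul x _ (hnΩ x i hi) _ (hnΩ y i hi), hnmul y _ (hnΩ x i hi) _ (hnΩ y i hi),
      hidem x i hi, hidem y i hi] at h1
    have hxy := hnΩ x _ (hnΩ y i hi)
    have hyx := hnΩ y _ (hnΩ x i hi)
    have h2 : n x (n y i) * n y (n x i) = 1 := by
      have h3 : n x i * (n x (n y i) * n y (n x i)) * n y i = n x i * n y i := by
        rw [← h1]; simp only [mul_assoc]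
      exact mul_eq_left.mp (mul_right_cancel h3)
    rw [eq_inv_of_mul_eq_one_left h2, inv_eq_of_mul_eq_one_right (h.ab.omega_sq _ hyx)]
  -- no map of rank one
  have hrank : ∀ x : X, x ∈ D ∨ ∀ i ∈ omega D, n x i = i := by
    intro x
    refine or_iff_not_imp_left.mpr fun hxD => ?_
    by_contra hne
    push Not at hne
    obtain ⟨v, hv, hvne⟩ := hne
    obtain ⟨w, hw, hwne⟩ : ∃ w ∈ omega D, n x w ≠ 1 := by
      by_contra hall
      push Not at hall
      exact hxD (hnker x hall)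
    set p := n x w with hp
    have hpΩ : p ∈ omega D := hnΩ x w hw
    have hnp : n x p = p := hidem x w hw
    set r := v * n x v with hr
    have hrΩ : r ∈ omega D := mul_mem hv (hnΩ x v hv)
    have hnr : n x r = 1 := by
      rw [hr, hnmul x v hv _ (hnΩ x v hv), hidem x v hv, hninv x v hv]
    have hr1 : r ≠ 1 := fun hh => hvne (by
      rw [eq_inv_of_mul_eq_one_right hh, inv_eq_of_mul_eq_one_right (h.ab.omega_sq v hv)])
    have hpr : p ≠ r := fun hh => hwne (by rw [← hnp, hh, hnr])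
    have hall := fun t (ht : t ∈ omega D) => h.ab.omega_cases hS hpΩ hrΩ hwne hr1 hpr ht
    have hfix : ∀ t ∈ omega D, n x t = t → t = 1 ∨ t = p := by
      intro t ht htt
      rcases hall t ht with rfl | rfl | rfl | rfl
      · exact Or.inl rfl
      · exact Or.inr rfl
      · exact absurd (htt.symm.trans hnr) hr1
      · exfalso
        rw [hnmul x p hpΩ r hrΩ, hnp, hnr, mul_one] at htt
        exact hr1 (mul_eq_left.mp htt.symm)
    have hkill : ∀ t ∈ omega D, n x t = 1 → t = 1 ∨ t = r := by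
      intro t ht htt
      rcases hall t ht with rfl | rfl | rfl | rfl
      · exact Or.inl rfl
      · exact absurd (hnp.symm.trans htt) hwne
      · exact Or.inr rfl
      · rw [hnmul x p hpΩ r hrΩ, hnp, hnr, mul_one] at htt
        exact absurd htt hwne
    have hap : a p ∈ omega D := h.ab.omega_map a hpΩ
    have har : a r ∈ omega D := h.ab.omega_map a hrΩ
    obtain ⟨-, hpa, hap1⟩ := h.a_sq hS hpΩ hwne
    obtain ⟨-, hra, har1⟩ := h.a_sq hS hrΩ hr1
    have hmp : n (a x) (a p) = a p := by rw [← hneq a x p hpΩ, hnp]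
    have hmr : n (a x) (a r) = 1 := by rw [← hneq a x r hrΩ, hnr, map_one]
    have hback : ∀ t ∈ omega D, a (n x (a⁻¹ t)) = n (a x) t := by
      intro t ht
      rw [hneq a x _ (h.ab.omega_map _ ht), show a ((a⁻¹ : MulAut X) t) = t from a.apply_symm_apply t]
    have hafix : ∀ t ∈ omega D, n (a x) t = t → t = 1 ∨ t = a p := by
      intro t ht htt
      have hinv : a ((a⁻¹ : MulAut X) t) = t := a.apply_symm_apply t
      rcases hfix _ (h.ab.omega_map a⁻¹ ht)
          (a.injective ((hback t ht).trans (htt.trans hinv.symm))) with hh | hh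
      · exact Or.inl (by rw [← hinv, hh, map_one])
      · exact Or.inr (by rw [← hinv, hh])
    have hakill : ∀ t ∈ omega D, n (a x) t = 1 → t = 1 ∨ t = a r := by
      intro t ht htt
      have hinv : a ((a⁻¹ : MulAut X) t) = t := a.apply_symm_apply t
      rcases hkill _ (h.ab.omega_map a⁻¹ ht)
          (a.injective ((hback t ht).trans (htt.trans (map_one a).symm))) with hh | hh
      · exact Or.inl (by rw [← hinv, hh, map_one])
      · exact Or.inr (by rw [← hinv, hh])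
    have e1 : a p = r := by
      rcases hall (a p) hap with hh | hh | hh | hh
      · exact absurd hh hap1
      · exact absurd hh.symm hpa
      · exact hh
      · exfalso
        have h1 : n x (a p) = p := by rw [hh, hnmul x p hpΩ r hrΩ, hnp, hnr, mul_one]
        have h2 := hcomm x (a x) (a p) hap
        rw [hmp, h1] at h2
        rcases hafix p hpΩ h2.symm with h3 | h3
        · exact hwne h3
        · exact hpa h3
    have e2 : a r = p := by
      rcases hall (a r) har with hh | hh | hh | hh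
      · exact absurd hh har1
      · exact hh
      · exact absurd hh.symm hra
      · exfalso
        have h1 : n x (a r) = p := by rw [hh, hnmul x p hpΩ r hrΩ, hnp, hnr, mul_one]
        have h3 : n x 1 = 1 := by
          have := hnmul x 1 (one_mem _) 1 (one_mem _)
          rw [one_mul] at this
          exact mul_eq_left.mp this.symm
        have h2 := hcomm x (a x) (a r) har
        rw [hmr, h1, h3] at h2
        rcases hakill p hpΩ h2.symm with h4 | h4
        · exact hwne h4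
        · exact hr1 (mul_eq_left.mp (h4.trans hh).symm)
    have h3 : a (a p) = p := by rw [e1, e2]
    exact hwne (h.fpf p hpΩ (hS.fix_of_sq_fix h.amem h3))
  -- all maps are then scalars
  obtain ⟨u, v, huv⟩ := hS.na
  refine huv ?_
  suffices hall : ∀ x : X, x ∈ D from h.ab.comm u (hall u) v (hall v)
  intro x
  rcases hrank x with hx | hx
  · exact hx
  refine hS.mem_of_fixed hcommD fun φ hφ => ?_
  have hx' : ∀ i ∈ omega D, n (φ x) i = i := by
    intro i hi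
    have h1 := hneq φ x (φ⁻¹ i) (h.ab.omega_map _ hi)
    rw [hx _ (h.ab.omega_map _ hi), show φ ((φ⁻¹ : MulAut X) i) = i from φ.apply_symm_apply i] at h1
    exact h1.symm
  have h1 : x * φ x ∈ D := hnker _ fun i hi => by
    rw [hnadd x _ i hi, hx i hi, hx' i hi, h.ab.omega_sq i hi]
  rw [show x⁻¹ * φ x = (x * x)⁻¹ * (x * φ x) by group]
  exact mul_mem (inv_mem (hsqD x)) h1

/-- Elements acting on `D` by roots of one lie in `D`. -/
theorem Homocyclic.tame_mem (h : Homocyclic A D a e) (he : 3 ≤ e)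
    (hself : ∀ x : X, (∀ d ∈ D, x * d = d * x) → x ∈ D) :
    ∀ x : X, (∀ d ∈ D, ⁅x, d⁆ ∈ omega D) → x ∈ D := by
  haveI : Fact (Nat.Prime 2) := ⟨Nat.prime_two⟩
  haveI hDn : D.Normal := h.ab.normal
  obtain ⟨f, rfl⟩ : ∃ f, e = f + 3 := ⟨e - 3, by omega⟩
  intro x0 hx0
  by_contra hx0D
  have hinvol : ∀ w ∈ omega D, w⁻¹ = w := fun w hw => inv_eq_of_mul_eq_one_right (h.ab.omega_sq w hw)
  have hadd : ∀ y z : X, (∀ d ∈ D, ⁅z, d⁆ ∈ omega D) → ∀ d ∈ D, ⁅y * z, d⁆ = ⁅z, d⁆ * ⁅y, d⁆ :=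
    fun y z hz d hd => by rw [h.ab.comm_left y z hd, h.comm_omega y (hz d hd), one_mul]
  let T : Subgroup X :=
    { carrier := {y | ∀ d ∈ D, ⁅y, d⁆ ∈ omega D}
      one_mem' := fun d _ => by rw [commutatorElement_one_left]; exact one_mem _
      mul_mem' := fun {y z} hy hz d hd => by rw [hadd y z hz d hd]; exact mul_mem (hz d hd) (hy d hd)
      inv_mem' := fun {y} hy d hd => by
        show ⁅y⁻¹, d⁆ ∈ omega D
        rw [show ⁅y⁻¹, d⁆ = y⁻¹ * ⁅y, d⁆⁻¹ * y⁻¹⁻¹ by simp only [commutatorElement_def]; group]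
        exact h.ab.omega_normal.conj_mem _ (inv_mem (hy d hd)) _ }
  have hDT : D ≤ T := fun y hy d hd => by
    rw [commutatorElement_eq_one_iff_mul_comm.mpr (h.ab.comm y hy d hd)]; exact one_mem _
  have hTmap : ∀ (φ : MulAut X), ∀ y ∈ T, φ y ∈ T := fun φ y hy d hd => by
    have h1 := h.ab.omega_map φ (hy _ (h.ab.map_mem φ⁻¹ hd))
    rwa [map_commutatorElement, show φ ((φ⁻¹ : MulAut X) d) = d from φ.apply_symm_apply d] at h1
  haveI hTn : T.Normal := ⟨fun y hy g d hd => by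
    have h1 := h.ab.omega_normal.conj_mem _ (hy (g⁻¹ * d * g) (by simpa using h.ab.conj_mem hd g⁻¹)) g
    rwa [show g * ⁅y, g⁻¹ * d * g⁆ * g⁻¹ = ⁅g * y * g⁻¹, d⁆ by
      simp only [commutatorElement_def]; group] at h1⟩
  have hsqD : ∀ y ∈ T, y * y ∈ D := fun y hy => hself _ fun d hd =>
    commutatorElement_eq_one_iff_mul_comm.mp (by rw [hadd y y hy d hd, h.ab.omega_sq _ (hy d hd)])
  have hsqkill : ∀ y ∈ T, ∀ r ∈ D, ⁅y, r * r⁆ = 1 := fun y hy r hr => by
    rw [h.ab.comm_mul y hr hr, h.ab.omega_sq _ (hy r hr)]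
  have hwd : ∀ y ∈ T, ∀ d ∈ D, ∀ d' ∈ D, d ^ (2 ^ (f + 2)) = d' ^ (2 ^ (f + 2)) → ⁅y, d⁆ = ⁅y, d'⁆ := by
    intro y hy d hd d' hd' hdd
    obtain ⟨r, hr, hrr⟩ := h.exists_sqrt (mul_mem (inv_mem hd) hd')
      (show (d⁻¹ * d') ^ (2 ^ (f + 2)) = 1 by
        rw [h.mul_pow' (inv_mem hd) hd', inv_pow, hdd, inv_mul_cancel])
    rw [show d' = d * (r * r) by rw [hrr, mul_inv_cancel_left], h.ab.comm_mul y hd (mul_mem hr hr),
      hsqkill y hy r hr, mul_one]
  have hqmul : ∀ y ∈ T, ∀ z ∈ T, (y * z * (y * z)) ^ (2 ^ (f + 2)) =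
      (y * y) ^ (2 ^ (f + 2)) * (z * z) ^ (2 ^ (f + 2)) := by
    intro y hy z hz
    have hy' := inv_mem hy
    have hc : ⁅y⁻¹, z⁆ ∈ D := comm_mem_of_sq hsqD hy' hz
    have h1 : ⁅y⁻¹ * y⁻¹, z⁆ = y⁻¹ * ⁅y⁻¹, z⁆ * y⁻¹⁻¹ * ⁅y⁻¹, z⁆ := by
      simp [commutatorElement_def, mul_assoc]
    rw [show y⁻¹ * ⁅y⁻¹, z⁆ * y⁻¹⁻¹ = ⁅y⁻¹, ⁅y⁻¹, z⁆⁆ * ⁅y⁻¹, z⁆ by
      simp only [commutatorElement_def]; group, mul_assoc] at h1
    have h2 : ⁅y⁻¹ * y⁻¹, z⁆ ∈ omega D := by
      rw [← commutatorElement_inv]; exact inv_mem (hz _ (hsqD _ hy'))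
    have h3 : ⁅y⁻¹, z⁆ * ⁅y⁻¹, z⁆ ∈ omega D := by
      rw [show ⁅y⁻¹, z⁆ * ⁅y⁻¹, z⁆ = ⁅y⁻¹, ⁅y⁻¹, z⁆⁆⁻¹ * ⁅y⁻¹ * y⁻¹, z⁆ by
        rw [h1, inv_mul_cancel_left]]
      exact mul_mem (inv_mem (hy' _ hc)) h2
    have h4 : ⁅y⁻¹, z⁆ ^ (2 ^ (f + 2)) = 1 := by
      rw [pow_succ', pow_mul, pow_two, pow_succ', pow_mul, pow_two, h.ab.omega_sq _ h3, one_pow]
    rw [sq_mul_eq, h.mul_pow' (mul_mem (hsqD y hy) hc) (hsqD z hz), h.mul_pow' (hsqD y hy) hc, h4,
      mul_one]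
  by_cases hinj : ∀ y ∈ T, (y * y) ^ (2 ^ (f + 2)) = 1 → y ∈ D
  · -- the square map cannot be injective
    set i := (x0 * x0) ^ (2 ^ (f + 2)) with hi_def
    have hx0T : x0 ∈ T := hx0
    have hi : i ∈ omega D := h.pow_mem_omega (hsqD x0 hx0T)
    have hi1 : i ≠ 1 := fun hh => hx0D (hinj x0 hx0T hh)
    obtain ⟨ha2, -, -⟩ := h.a_sq hS hi hi1
    set r := x0 * x0 with hr
    have hrD : r ∈ D := hsqD x0 hx0T
    have har : a r ∈ D := h.ab.map_mem a hrD
    have hxr : ⁅x0, r⁆ = 1 := commutatorElement_eq_one_iff_mul_comm.mpr (by rw [hr]; group)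
    set w := ⁅x0, a r⁆ with hw
    have hwΩ : w ∈ omega D := hx0 _ har
    have hax : a x0 ∈ T := hTmap a x0 hx0T
    have hax1 : ⁅a x0, a r⁆ = 1 := by rw [← map_commutatorElement, hxr, map_one]
    have haw : a w = ⁅a x0, r⁆ := by
      rw [hw, map_commutatorElement, hwd _ hax _ (h.ab.map_mem a har) _ (mul_mem hrD har) ?_,
        h.ab.comm_mul _ hrD har, hax1, mul_one]
      rw [← map_pow, ← map_pow, ← hi_def, ha2, h.mul_pow' hrD har, ← map_pow, ← hi_def]
    have hz : x0 * a x0 ∈ T := mul_mem hx0T hax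
    have hzero : ⁅x0 * a x0, r * a r⁆ = 1 := by
      rw [hwd _ hz _ (mul_mem hrD har) _ (hsqD _ hz) ?_]
      · exact commutatorElement_eq_one_iff_mul_comm.mpr (by group)
      · rw [h.mul_pow' hrD har, hqmul _ hx0T _ hax, ← map_mul a x0 x0, ← hr]
    rw [hadd x0 _ hax _ (mul_mem hrD har), h.ab.comm_mul _ hrD har, h.ab.comm_mul _ hrD har, hax1,
      mul_one, hxr, one_mul, ← haw, ← hw] at hzero
    have hw1 : w = 1 := h.fpf w hwΩ (by rw [eq_inv_of_mul_eq_one_left hzero, hinvol w hwΩ])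
    refine hx0D (hself x0 fun d hd => commutatorElement_eq_one_iff_mul_comm.mp ?_)
    rcases h.cases' hS hi hi1 (h.pow_mem_omega hd) with hh | hh | hh | hh
    · rw [hwd x0 hx0T d hd 1 (one_mem D) (by rw [one_pow]; exact hh), commutatorElement_one_right]
    · rw [hwd x0 hx0T d hd r hrD hh, hxr]
    · rw [hwd x0 hx0T d hd _ har (by rw [← map_pow]; exact hh), ← hw, hw1]
    · rw [hwd x0 hx0T d hd _ (mul_mem hrD har) (by rw [h.mul_pow' hrD har, ← map_pow]; exact hh),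
        h.ab.comm_mul _ hrD har, hxr, ← hw, hw1, one_mul]
  push Not at hinj
  obtain ⟨y0, hy0T, hy0p, hy0D⟩ := hinj
  let N : Subgroup X :=
    { carrier := {y | y ∈ T ∧ (y * y) ^ (2 ^ (f + 2)) = 1}
      one_mem' := ⟨one_mem T, by simp⟩
      mul_mem' := fun {u v} hu hv => ⟨mul_mem hu.1 hv.1, by
        rw [hqmul u hu.1 v hv.1, hu.2, hv.2, one_mul]⟩
      inv_mem' := fun {u} hu => ⟨inv_mem hu.1, by rw [← mul_inv_rev, inv_pow, hu.2, inv_one]⟩ }
  haveI : N.Normal := ⟨fun u hu g => ⟨hTn.conj_mem u hu.1 g, by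
    rw [show g * u * g⁻¹ * (g * u * g⁻¹) = g * (u * u) * g⁻¹ by group]
    exact (h.pow_conj g (hsqD u hu.1)).trans hu.2⟩⟩
  haveI : (N.map (QuotientGroup.mk' D)).Normal :=
    Subgroup.Normal.map inferInstance _ (QuotientGroup.mk'_surjective D)
  obtain ⟨z, ⟨x, ⟨hxT, hxp⟩, rfl⟩, hzc, hz1⟩ := Critical.exists_center_mem (hS.two.to_quotient D)
    (N := N.map (QuotientGroup.mk' D)) (fun hb => by
      have h1 : QuotientGroup.mk' D y0 ∈ N.map (QuotientGroup.mk' D) :=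
        Subgroup.mem_map_of_mem _ (⟨hy0T, hy0p⟩ : y0 ∈ N)
      rw [hb, Subgroup.mem_bot] at h1
      exact hy0D ((QuotientGroup.eq_one_iff y0).mp h1))
  have hxD : x ∉ D := fun hh => hz1 ((QuotientGroup.eq_one_iff x).mpr hh)
  obtain ⟨u, hu, huu⟩ := h.exists_sqrt (hsqD x hxT) hxp
  set y := x * u⁻¹ with hy
  have hyT : y ∈ T := mul_mem hxT (hDT (inv_mem hu))
  have hτ : y * y ∈ omega D := by
    have h1 := inv_mem hxT (u⁻¹) (inv_mem hu)
    have h2 : y * y = ⁅x⁻¹, u⁻¹⁆ := by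
      rw [hy, sq_mul_eq, ← huu]
      calc u * u * ⁅x⁻¹, u⁻¹⁆ * (u⁻¹ * u⁻¹) = ⁅x⁻¹, u⁻¹⁆ * (u * u) * (u⁻¹ * u⁻¹) := by
            rw [h.ab.comm (u * u) (mul_mem hu hu) _ (h.ab.comm_mem (inv_mem hu) _)]
        _ = ⁅x⁻¹, u⁻¹⁆ := by group
    rw [h2]; exact h1
  obtain ⟨v, hv, hvi⟩ := h.onto _ hτ
  set w := v ^ (2 ^ (f + 1)) with hw
  have hwD : w ∈ D := pow_mem hv _
  have hww : w * w = y * y := by
    rw [hw, ← pow_add, ← two_mul, ← pow_succ']; exact hvi
  obtain ⟨r, hr, hrr⟩ := h.exists_sqrt hwD (show w ^ (2 ^ (f + 2)) = 1 by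
    rw [hw, ← pow_mul, ← pow_add, show f + 1 + (f + 2) = f + 3 + f by ring, pow_add, pow_mul,
      h.exp v hv, one_pow])
  have hyw : y * w = w * y := by
    rw [← commutatorElement_eq_one_iff_mul_comm, ← hrr]; exact hsqkill y hyT r hr
  set t := y * w⁻¹ with ht
  have htT : t ∈ T := mul_mem hyT (hDT (inv_mem hwD))
  have ht2 : t * t = 1 := by
    have hc : w⁻¹ * y = y * w⁻¹ := by
      calc w⁻¹ * y = w⁻¹ * (y * w) * w⁻¹ := by group
        _ = w⁻¹ * (w * y) * w⁻¹ := by rw [hyw]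
        _ = y * w⁻¹ := by group
    calc t * t = y * (w⁻¹ * y) * w⁻¹ := by rw [ht]; group
      _ = y * (y * w⁻¹) * w⁻¹ := by rw [hc]
      _ = (y * y) * (w * w)⁻¹ := by group
      _ = 1 := by rw [hww, mul_inv_cancel]
  have hti : t⁻¹ = t := inv_eq_of_mul_eq_one_right ht2
  have htD : t ∉ D := fun hh => hxD (by
    have := mul_mem (mul_mem hh hwD) hu
    rwa [ht, hy, inv_mul_cancel_right, inv_mul_cancel_right] at this)
  refine htD (h.ab.mem_omega.mp (h.no_inv hS ht2 fun g => ?_)).1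
  have hcD : ⁅t, g⁆ ∈ D := by
    rw [← QuotientGroup.eq_one_iff, ← QuotientGroup.mk'_apply, map_commutatorElement,
      commutatorElement_eq_one_iff_mul_comm, ht, hy, map_mul, map_mul,
      show QuotientGroup.mk' D u⁻¹ = 1 from (QuotientGroup.eq_one_iff _).mpr (inv_mem hu),
      show QuotientGroup.mk' D w⁻¹ = 1 from (QuotientGroup.eq_one_iff _).mpr (inv_mem hwD), mul_one,
      mul_one]
    exact ((Subgroup.mem_center_iff.mp hzc) _).symm
  set s := ⁅t, g⁆ with hs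
  have hsts : t * s * t * s = 1 := by
    have e1 : t * s = g * t * g⁻¹ := by
      rw [hs, commutatorElement_def, hti, show t * (t * g * t * g⁻¹) = t * t * g * t * g⁻¹ by group,
        ht2, one_mul]
    calc t * s * t * s = t * s * (t * s) := by group
      _ = g * (t * t) * g⁻¹ := by rw [e1]; group
      _ = 1 := by rw [ht2, mul_one, mul_inv_cancel]
  have hkey : ⁅t, s⁆ * (s * s) = 1 := by
    rw [← hsts]; simp only [commutatorElement_def, hti]; group
  have hs2 : s * s ∈ omega D := by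
    rw [eq_inv_of_mul_eq_one_right hkey]; exact inv_mem (htT s hcD)
  obtain ⟨q, hq, hqq⟩ := h.exists_sqrt hcD (show s ^ (2 ^ (f + 2)) = 1 by
    rw [pow_succ', pow_mul, pow_two, pow_succ', pow_mul, pow_two, h.ab.omega_sq _ hs2, one_pow])
  refine h.ab.mem_omega.mpr ⟨hcD, ?_⟩
  rwa [← hqq, hsqkill t htT q hq, one_mul, hqq] at hkey

theorem Homocyclic.exp_eq_two (h : Homocyclic A D a e)
    (hself : ∀ x : X, (∀ d ∈ D, x * d = d * x) → x ∈ D) : e = 2 := by
  by_contra hne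
  have := h.two_le
  exact h.no_tame_deep hS (by omega) hself (h.tame_mem hS (by omega) hself)

end Cfsg.Agent.Lib.NoSCNThree
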