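import Cfsg.Agent.Lib.NoSCNThree.Core

/-!
Exponent four: all squares are roots of one.
-/

set_option autoImplicit false
set_option linter.unusedSectionVars false

open scoped commutatorElement

namespace Cfsg.Agent.Lib.NoSCNThree

variable {X : Type*} [Group X] [Finite X] {A : Subgroup (MulAut X)} {D : Subgroup X} {a : MulAut X}
  (hS : Setting X A)

include hS

theorem Homocyclic.squares_of_exp_four (h : Homocyclic A D a 2)
    (hself : ∀ x : X, (∀ d ∈ D, x * d = d * x) → x ∈ D) : ∀ x : X, x * x ∈ omega D := by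
  haveI hDn : D.Normal := h.ab.normal
  have hs : ∀ x : X, ∀ d ∈ D, ⁅x, d⁆ ∈ omega D := fun x d hd =>
    h.ab.mem_omega.mpr ⟨h.ab.comm_mem hd x, by
      have := h.pow_comm x hd
      rwa [show 2 ^ (2 - 1) = 2 from rfl, pow_two] at this⟩
  have hinvol : ∀ w ∈ omega D, w⁻¹ = w := fun w hw => inv_eq_of_mul_eq_one_right (h.ab.omega_sq w hw)
  have hl : ∀ x y : X, ∀ d ∈ D, ⁅x * y, d⁆ = ⁅y, d⁆ * ⁅x, d⁆ := fun x y d hd => by
    rw [h.ab.comm_left x y hd, h.comm_omega x (hs y d hd), one_mul]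
  have hmemD : ∀ x : X, (∀ d ∈ D, ⁅x, d⁆ = 1) → x ∈ D := fun x hx =>
    hself x fun d hd => commutatorElement_eq_one_iff_mul_comm.mp (hx d hd)
  have hsqD : ∀ x : X, x * x ∈ D := fun x => hmemD _ fun d hd => by
    rw [hl x x d hd, h.ab.omega_sq _ (hs x d hd)]
  have hcommD : ∀ x y : X, ⁅x, y⁆ ∈ D := fun x y =>
    comm_mem_of_sq (Y := ⊤) (fun z _ => hsqD z) trivial trivial
  have hwd : ∀ x : X, ∀ d ∈ D, ∀ d' ∈ D, d * d = d' * d' → ⁅x, d⁆ = ⁅x, d'⁆ := by
    intro x d hd d' hd' hdd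
    have hu : d⁻¹ * d' ∈ omega D := by
      refine h.ab.mem_omega.mpr ⟨mul_mem (inv_mem hd) hd', ?_⟩
      have hc := h.ab.comm d' hd' d⁻¹ (inv_mem hd)
      calc d⁻¹ * d' * (d⁻¹ * d') = d⁻¹ * (d' * d⁻¹) * d' := by group
        _ = d⁻¹ * (d⁻¹ * d') * d' := by rw [hc]
        _ = (d * d)⁻¹ * (d' * d') := by group
        _ = 1 := by rw [hdd, inv_mul_cancel]
    conv_rhs => rw [show d' = d * (d⁻¹ * d') by group, h.ab.comm_mul x hd (h.ab.mem_omega.mp hu).1,
      h.comm_omega x hu, mul_one]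
  have hequiv : ∀ (φ : MulAut X) (x d : X), φ ⁅x, d⁆ = ⁅φ x, φ d⁆ := fun φ x d =>
    map_commutatorElement φ x d
  have hcancel : ∀ x y : X, (∀ d ∈ D, ⁅x, d⁆ = ⁅y, d⁆) → x⁻¹ * y ∈ D := fun x y hxy =>
    hmemD _ fun d hd => by
      have h1 := hl x (x⁻¹ * y) d hd
      rw [mul_inv_cancel_left, ← hxy d hd] at h1
      exact mul_eq_right.mp h1.symm
  -- fixed cosets
  have hfix : ∀ x : X, (∀ d ∈ D, ⁅a x, d⁆ = ⁅x, d⁆) → x ∈ D := by
    intro x hx
    have hsurj : ∀ (φ : MulAut X) (d : X), d ∈ D → ∃ d0 ∈ D, φ d0 = d := fun φ d hd =>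
      ⟨φ⁻¹ d, h.ab.map_mem _ hd, φ.apply_symm_apply d⟩
    have ha : ∀ d ∈ D, a ⁅x, d⁆ = ⁅x, a d⁆ := fun d hd => by
      rw [hequiv, hx _ (h.ab.map_mem a hd)]
    refine hS.mem_of_fixed hcommD fun φ hφ => hcancel _ _ fun d hd => ?_
    obtain ⟨d0, hd0, rfl⟩ := hsurj φ d hd
    rw [← hequiv]
    have hdd : d0 * d0 ∈ omega D := h.ab.mem_omega.mpr ⟨mul_mem hd0 hd0, by
      rw [← h.exp d0 hd0]; simp [pow_succ, mul_assoc]⟩
    have hφD := h.ab.map_mem φ hd0
    rcases h.act_cases hS hφ with hh | hh | hh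
    · rw [hh _ (hs x d0 hd0), hwd x _ hφD _ hd0 (by rw [← map_mul, hh _ hdd])]
    · rw [hh _ (hs x d0 hd0), ha d0 hd0,
        hwd x _ hφD _ (h.ab.map_mem a hd0) (by rw [← map_mul, ← map_mul, hh _ hdd])]
    · rw [hh _ (hs x d0 hd0), ha d0 hd0, ha _ (h.ab.map_mem a hd0),
        hwd x _ hφD _ (h.ab.map_mem a (h.ab.map_mem a hd0))
          (by rw [← map_mul, ← map_mul, ← map_mul, hh _ hdd])]
  -- the norm is trivial
  have hnorm : ∀ x : X, ∀ d ∈ D, ⁅a (a x), d⁆ * ⁅a x, d⁆ * ⁅x, d⁆ = 1 := by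
    intro x d hd
    have hz : x * a x * a (a x) ∈ D := by
      refine hfix _ fun d hd => ?_
      rw [map_mul, map_mul, hl _ _ d hd, hl _ _ d hd, hl _ _ d hd, hl _ _ d hd]
      have h3 : ⁅a (a (a x)), d⁆ = ⁅x, d⁆ := by
        have hd' := h.ab.map_mem (a⁻¹) (h.ab.map_mem (a⁻¹) (h.ab.map_mem (a⁻¹) hd))
        set d0 := (a⁻¹ : MulAut X) ((a⁻¹ : MulAut X) ((a⁻¹ : MulAut X) d))
        have e0 : a (a (a d0)) = d := by
          simp only [d0, show ∀ t : X, a ((a⁻¹ : MulAut X) t) = t from a.apply_symm_apply]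
        have hdd : d0 * d0 ∈ omega D := h.ab.mem_omega.mpr ⟨mul_mem hd' hd', by
          rw [← h.exp d0 hd']; simp [pow_succ, mul_assoc]⟩
        rw [← e0, ← hequiv, ← hequiv, ← hequiv, h.a_cube hS (hs x d0 hd')]
        refine hwd x _ hd' _ (by rw [e0]; exact hd) ?_
        simp only [← map_mul]
        rw [h.a_cube hS hdd]
      rw [h3, ← h.central _ (hs x d hd) (⁅a (a x), d⁆ * ⁅a x, d⁆), mul_assoc]
    have := commutatorElement_eq_one_iff_mul_comm.mpr (h.ab.comm _ hz d hd)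
    rw [hl _ _ d hd, hl _ _ d hd, ← mul_assoc] at this
    exact this
  -- one root of one detects the cosets
  have hinj : ∀ x : X, ∀ r ∈ D, r * r ≠ 1 → ⁅x, r⁆ = 1 → x ∈ D := by
    intro x r hr hi1 hxr
    set i := r * r with hi_def
    have hi : i ∈ omega D := h.ab.mem_omega.mpr ⟨mul_mem hr hr, by
      rw [hi_def, ← h.exp r hr]; simp [pow_succ, mul_assoc]⟩
    obtain ⟨ha2, hne, ha1⟩ := h.a_sq hS hi hi1
    have har := h.ab.map_mem a hr
    have haar := h.ab.map_mem a har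
    have hai : a r * a r = a i := by rw [hi_def, map_mul]
    have haai : a (a r) * a (a r) = i * a i := by rw [← map_mul, hai, ha2]
    set w := ⁅x, a r⁆ with hw
    have hkill1 : ⁅a x, a r⁆ = 1 := by rw [← hequiv, hxr, map_one]
    have hkill2 : ⁅a (a x), a (a r)⁆ = 1 := by rw [← hequiv, ← hequiv, hxr, map_one, map_one]
    have hz := hnorm x _ har
    rw [hkill1, mul_one, ← hw] at hz
    have hswap : ⁅a (a x), a r⁆ = ⁅a (a x), r⁆ := by
      have e1 : ⁅a (a x), r * a r⁆ = 1 := by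
        rw [← hkill2]
        refine hwd _ _ (mul_mem hr har) _ haar ?_
        rw [haai, ← hai, hi_def]
        calc r * a r * (r * a r) = r * (a r * r) * a r := by group
          _ = r * (r * a r) * a r := by rw [h.ab.comm _ har r hr]
          _ = r * r * (a r * a r) := by group
      rw [h.ab.comm_mul _ hr har] at e1
      rw [eq_inv_of_mul_eq_one_right e1, hinvol _ (hs _ r hr)]
    have haw : a (a w) = ⁅a (a x), r⁆ := by
      rw [hw, hequiv, hequiv]
      refine hwd _ _ (h.ab.map_mem a haar) _ hr ?_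
      simp only [← map_mul]
      rw [← hi_def, h.a_cube hS hi]
    rw [hswap, ← haw] at hz
    have hw1 : w = 1 := by
      have hwΩ := hs x _ har
      refine h.fpf w hwΩ (hS.fix_of_sq_fix h.amem ?_)
      rw [eq_inv_of_mul_eq_one_left hz, hinvol w hwΩ]
    refine hmemD x fun d hd => ?_
    have hdd : d * d ∈ omega D := h.ab.mem_omega.mpr ⟨mul_mem hd hd, by
      rw [← h.exp d hd]; simp [pow_succ, mul_assoc]⟩
    rcases h.cases' hS hi hi1 hdd with hh | hh | hh | hh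
    · rw [hwd x d hd 1 (one_mem D) (by rw [hh, one_mul]), commutatorElement_one_right]
    · rw [hwd x d hd r hr hh, hxr]
    · rw [hwd x d hd _ har (hh.trans hai.symm), ← hw, hw1]
    · rw [hwd x d hd _ (mul_mem hr har) (hh.trans ?_), h.ab.comm_mul x hr har, hxr, ← hw, hw1, one_mul]
      rw [← hai, hi_def]
      calc r * r * (a r * a r) = r * (r * a r) * a r := by group
        _ = r * (a r * r) * a r := by rw [h.ab.comm _ har r hr]
        _ = r * a r * (r * a r) := by group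
  -- conclusion
  intro x
  refine h.ab.mem_omega.mpr ⟨hsqD x, ?_⟩
  by_contra hne
  have hx : x ∈ D := hinj x (x * x) (hsqD x) hne
    (commutatorElement_eq_one_iff_mul_comm.mpr (by group))
  refine hne ?_
  rw [← h.exp x hx]; simp [pow_succ, mul_assoc]

end Cfsg.Agent.Lib.NoSCNThree
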