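import Cfsg.Agent.Lib.NoSCNThree.SelfCentral
import Cfsg.Agent.Lib.NoSCNThree.ExpFour
import Cfsg.Agent.Lib.NoSCNThree.Deep

/-!
The squares lie in a central elementary abelian subgroup.
-/

set_option autoImplicit false
set_option linter.unusedSectionVars false

open scoped commutatorElement

namespace Cfsg.Agent.Lib.NoSCNThree

variable {X : Type*} [Group X] [Finite X] {A : Subgroup (MulAut X)}

theorem Setting.exists_central_squares (hS : Setting X A) :
    ∃ Z : Subgroup X, Z ≤ Subgroup.center X ∧ (∀ z ∈ Z, z * z = 1) ∧ ∀ x : X, x * x ∈ Z := by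
  classical
  haveI : Fact (Nat.Prime 2) := ⟨Nat.prime_two⟩
  obtain ⟨C, hC⟩ := Critical.exists_critical hS.two
  haveI := hC.char
  set D := C ⊓ Subgroup.centralizer (C : Set X) with hD
  have hDmem : ∀ d, d ∈ D ↔ d ∈ C ∧ ∀ c ∈ C, c * d = d * c := fun d => by
    rw [hD, Subgroup.mem_inf, Subgroup.mem_centralizer_iff]; rfl
  have hcen : ∀ x : X, (∀ c ∈ C, x * c = c * x) ↔ x ∈ D := fun x => by
    rw [hDmem]
    exact ⟨fun hx => ⟨hC.centralizer_le (Subgroup.mem_centralizer_iff.mpr fun c hc => (hx c hc).symm),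
      fun c hc => (hx c hc).symm⟩, fun hx c hc => (hx.2 c hc).symm⟩
  have hab : AbChar D :=
    { char := by rw [hD]; exact Subgroup.characteristic_inf
      comm := fun u hu v hv => ((hDmem u).mp hu).2 v ((hDmem v).mp hv).1 |>.symm }
  have hpow : ∀ c ∈ C, c * c ∈ D := fun c hc => by rw [← pow_two]; exact hC.pow_mem c hc
  have hcomm : ∀ c ∈ C, ∀ g : X, ⁅g, c⁆ ∈ D := fun c hc g => by
    rw [← commutatorElement_inv]
    exact inv_mem (hC.comm_le (Subgroup.commutator_mem_commutator hc (Subgroup.mem_top g)))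
  -- the squares of a group acting trivially
  have hsq : (∀ d ∈ D, ∀ g : X, g * d = d * g) → ∀ x : X, x * x ∈ D := by
    intro hz x
    rw [← hcen]
    intro c hc
    rw [← commutatorElement_eq_one_iff_mul_comm]
    have hd := hcomm c hc x
    calc ⁅x * x, c⁆ = x * ⁅x, c⁆ * x⁻¹ * ⁅x, c⁆ := by simp only [commutatorElement_def]; group
      _ = ⁅x, c⁆ * (c * ⁅x, c⁆ * c⁻¹) := by
        rw [hz _ hd x, mul_inv_cancel_right, hz _ hd c, mul_inv_cancel_right]
      _ = ⁅x, c * c⁆ := by simp only [commutatorElement_def]; group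
      _ = 1 := commutatorElement_eq_one_iff_mul_comm.mpr (hz _ (hpow c hc) x)
  by_cases htriv : ∀ φ ∈ A, ∀ d ∈ D, (φ : MulAut X) d = d
  · -- all automorphisms fix `D`
    have hz : ∀ d ∈ D, ∀ g : X, g * d = d * g := by
      intro d hd g
      have hle : Subgroup.closure {g : X | ∃ φ ∈ A, ∃ x : X, g = x⁻¹ * φ x} ≤
          Subgroup.centralizer (D : Set X) := by
        rw [Subgroup.closure_le]
        rintro _ ⟨φ, hφ, x, rfl⟩
        rw [SetLike.mem_coe, Subgroup.mem_centralizer_iff]
        intro t ht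
        have h1 := htriv φ hφ _ (hab.conj_mem ht x)
        rw [map_mul, map_mul, map_inv, htriv φ hφ t ht] at h1
        calc t * (x⁻¹ * φ x) = x⁻¹ * (x * t * x⁻¹) * φ x := by group
          _ = x⁻¹ * (φ x * t * (φ x)⁻¹) * φ x := by rw [h1]
          _ = x⁻¹ * φ x * t := by group
      exact (Subgroup.mem_centralizer_iff.mp (hle (hS.gen.symm ▸ Subgroup.mem_top g)) d hd).symm
    have hsqD := hsq hz
    refine ⟨omega D, fun z hz' => Subgroup.mem_center_iff.mpr (hz z (hab.mem_omega.mp hz').1),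
      hab.omega_sq, fun x => hab.mem_omega.mpr ⟨hsqD x, ?_⟩⟩
    have hc : ∀ u v : X, ⁅u, v⁆ ∈ D := fun u v =>
      comm_mem_of_sq (Y := ⊤) (fun y _ => hsqD y) trivial trivial
    have hc2 : ∀ u v : X, ⁅u, v⁆ * ⁅u, v⁆ = 1 := fun u v => by
      have e1 : ⁅u * u, v⁆ = u * ⁅u, v⁆ * u⁻¹ * ⁅u, v⁆ := by simp only [commutatorElement_def]; group
      rw [commutatorElement_eq_one_iff_mul_comm.mpr (hz _ (hsqD u) v).symm, hz _ (hc u v) u,
        mul_inv_cancel_right] at e1
      exact e1.symm
    letI : CommGroup D := { (inferInstance : Group D) with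
      mul_comm := fun u v => Subtype.ext (hab.comm u u.2 v v.2) }
    let g : X →* D :=
      { toFun := fun y => ⟨y * y * (y * y), mul_mem (hsqD y) (hsqD y)⟩
        map_one' := Subtype.ext (by simp)
        map_mul' := fun u v => Subtype.ext (by
          show u * v * (u * v) * (u * v * (u * v)) = u * u * (u * u) * (v * v * (v * v))
          rw [sq_mul_eq u v]
          set c := ⁅u⁻¹, v⁆
          have k1 : v * v * (u * u) * c = c * (v * v * (u * u)) := hz _ (hc u⁻¹ v) _
          calc u * u * c * (v * v) * (u * u * c * (v * v))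
              = u * u * (c * ((v * v * (u * u)) * c)) * (v * v) := by group
            _ = u * u * ((c * c) * (v * v * (u * u))) * (v * v) := by rw [k1]; group
            _ = u * u * ((v * v) * (u * u)) * (v * v) := by rw [show c * c = 1 from hc2 _ _, one_mul]
            _ = u * u * ((u * u) * (v * v)) * (v * v) := by rw [hz _ (hsqD u) (v * v)]
            _ = u * u * (u * u) * (v * v * (v * v)) := by group) }
    have h1 := hS.hom_eq_one g (x := x) fun φ hφ => Subtype.ext (by
      show φ x * φ x * (φ x * φ x) = x * x * (x * x)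
      rw [← map_mul, ← map_mul, htriv φ hφ _ (mul_mem (hsqD x) (hsqD x))])
    exact congrArg Subtype.val h1
  push Not at htriv
  obtain ⟨a, ha, d0, hd0, had0⟩ := htriv
  -- `a` has no fixed roots of one
  have hfpf : ∀ i ∈ omega D, a i = i → i = 1 := by
    intro i hi hai
    by_contra hi1
    exact had0 (hab.fix_all hS ha (fun t ht => hab.fix_omega hS ha hi hi1 hai ht) d0 hd0)
  have hinv : ∃ i ∈ omega D, i ≠ 1 := by
    by_contra hall
    push Not at hall
    exact had0 (hab.fix_all hS ha (fun t ht => by rw [hall t ht, map_one]) d0 hd0)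
  have homega : ∀ i ∈ omega D, i ≠ 1 → ∀ t ∈ omega D, t = 1 ∨ t = i ∨ t = a i ∨ t = i * a i := by
    intro i hi hi1 t ht
    exact hab.omega_cases hS hi (hab.omega_map a hi) hi1
      (fun hh => hi1 (a.injective (hh.trans (map_one a).symm))) (fun hh => hi1 (hfpf i hi hh.symm)) ht
  haveI := hab.omega_normal
  have hcentral : ∀ i ∈ omega D, ∀ g : X, g * i = i * g := by
    obtain ⟨z, hz, hzc, hz1⟩ := Critical.exists_center_mem hS.two (N := omega D) (fun hb => by
      obtain ⟨i, hi, hi1⟩ := hinv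
      rw [hb, Subgroup.mem_bot] at hi
      exact hi1 hi)
    have hazc : ∀ g : X, g * a z = a z * g := fun g => by
      have := congrArg a (Subgroup.mem_center_iff.mp hzc ((a⁻¹ : MulAut X) g))
      rwa [map_mul, map_mul, show a ((a⁻¹ : MulAut X) g) = g from a.apply_symm_apply g] at this
    intro i hi g
    rcases homega z hz hz1 i hi with rfl | rfl | rfl | rfl
    · rw [mul_one, one_mul]
    · exact Subgroup.mem_center_iff.mp hzc g
    · exact hazc g
    · rw [← mul_assoc, Subgroup.mem_center_iff.mp hzc g, mul_assoc, hazc g, ← mul_assoc]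
  have hex : ∃ e, ∀ d ∈ D, d ^ (2 ^ e) = 1 := by
    obtain ⟨k, hk⟩ := IsPGroup.iff_card.mp (hS.two.to_subgroup D)
    exact ⟨k, fun d hd => by
      rw [← hk]; exact congrArg Subtype.val (pow_card_eq_one' (G := D) (x := ⟨d, hd⟩))⟩
  set e := Nat.find hex with he
  have hexp : ∀ d ∈ D, d ^ (2 ^ e) = 1 := Nat.find_spec hex
  have he1 : 1 ≤ e := by
    by_contra hlt
    obtain ⟨i, hi, hi1⟩ := hinv
    have := hexp i (hab.mem_omega.mp hi).1
    rw [show e = 0 by omega, pow_zero, pow_one] at this
    exact hi1 this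
  have honto : ∀ i ∈ omega D, ∃ r ∈ D, r ^ (2 ^ (e - 1)) = i := by
    obtain ⟨r, hr, hr1⟩ : ∃ r ∈ D, r ^ (2 ^ (e - 1)) ≠ 1 := by
      by_contra hall
      push Not at hall
      exact Nat.find_min hex (show e - 1 < e by omega) hall
    have hi : r ^ (2 ^ (e - 1)) ∈ omega D := hab.mem_omega.mpr ⟨pow_mem hr _, by
      rw [← pow_add, ← two_mul, ← pow_succ', Nat.sub_add_cancel he1, hexp r hr]⟩
    intro i hii
    rcases homega _ hi hr1 i hii with rfl | rfl | rfl | rfl
    · exact ⟨1, one_mem D, one_pow _⟩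
    · exact ⟨r, hr, rfl⟩
    · exact ⟨a r, hab.map_mem a hr, by rw [map_pow]⟩
    · exact ⟨r * a r, mul_mem hr (hab.map_mem a hr), by
        rw [(show Commute r (a r) from hab.comm r hr _ (hab.map_mem a hr)).mul_pow, map_pow]⟩
  rcases Nat.eq_or_lt_of_le he1 with he1' | he2
  · -- exponent two
    have hDΩ : ∀ d ∈ D, d ∈ omega D := fun d hd => hab.mem_omega.mpr ⟨hd, by
      have := hexp d hd
      rwa [← he1', pow_one, pow_two] at this⟩
    refine ⟨omega D, fun z hz => Subgroup.mem_center_iff.mpr (hcentral z hz), hab.omega_sq,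
      fun x => hDΩ _ (hsq (fun d hd => hcentral d (hDΩ d hd)) x)⟩
  have h : Homocyclic A D a e := ⟨hab, ha, hfpf, hinv, hcentral, hexp, honto, he2⟩
  have hself := h.self_centralizing hS C hcen (by rw [hD]; exact inf_le_left) hpow hcomm
  have h2 := h.exp_eq_two hS hself
  rw [h2] at h
  exact ⟨omega D, fun z hz => Subgroup.mem_center_iff.mpr (hcentral z hz), hab.omega_sq,
    h.squares_of_exp_four hS hself⟩

end Cfsg.Agent.Lib.NoSCNThree
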