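import Cfsg.Agent.Lib.NoSCNThree.Core
import Cfsg.Agent.Lib.PGroup.Critical

/-!
The centre of a critical subgroup is self-centralising.
-/

set_option autoImplicit false
set_option linter.unusedSectionVars false

open scoped commutatorElement

namespace Cfsg.Agent.Lib.NoSCNThree

variable {X : Type*} [Group X] [Finite X] {A : Subgroup (MulAut X)} {D : Subgroup X} {a : MulAut X}
  {e : ℕ} (hS : Setting X A)

include hS

theorem Homocyclic.self_centralizing (h : Homocyclic A D a e) (C : Subgroup X)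
    (hcen : ∀ x : X, (∀ c ∈ C, x * c = c * x) ↔ x ∈ D) (hDC : D ≤ C)
    (hpow : ∀ c ∈ C, c * c ∈ D) (hcomm : ∀ c ∈ C, ∀ g : X, ⁅g, c⁆ ∈ D) :
    ∀ x : X, (∀ d ∈ D, x * d = d * x) → x ∈ D := by
  haveI : Fact (Nat.Prime 2) := ⟨Nat.prime_two⟩
  set P := 2 ^ (e - 1) with hP
  have hP2 : ∃ q, P = 2 * q := ⟨2 ^ (e - 2), by
    rw [hP, ← pow_succ']; congr 1; have := h.two_le; omega⟩
  set K : Subgroup X := Subgroup.centralizer (D : Set X) with hKdef
  have hK : ∀ k, k ∈ K ↔ ∀ d ∈ D, k * d = d * k := fun k => by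
    rw [hKdef, Subgroup.mem_centralizer_iff]; exact ⟨fun h d hd => (h d hd).symm, fun h d hd => (h d hd).symm⟩
  have hDK : D ≤ K := fun d hd => (hK d).mpr fun d' hd' => h.ab.comm d hd d' hd'
  have hCK : C ≤ K := fun c hc => (hK c).mpr fun d hd => (((hcen d).mpr hd) c hc).symm
  haveI hDn : D.Normal := h.ab.normal
  haveI hKn : K.Normal := by rw [hKdef]; infer_instance
  -- squares
  have hsq : ∀ k ∈ K, k * k ∈ D := by
    intro k hk
    rw [← hcen]
    intro c hc
    rw [← commutatorElement_eq_one_iff_mul_comm]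
    have hd := hcomm c hc k
    have e1 : ⁅k * k, c⁆ = k * ⁅k, c⁆ * k⁻¹ * ⁅k, c⁆ := by simp only [commutatorElement_def]; group
    have e2 : ⁅k, c * c⁆ = ⁅k, c⁆ * (c * ⁅k, c⁆ * c⁻¹) := by simp only [commutatorElement_def]; group
    rw [commutatorElement_eq_one_iff_mul_comm.mpr ((hK k).mp hk _ (hpow c hc)),
      (hK c).mp (hCK hc) _ hd, mul_inv_cancel_right] at e2
    rw [e1, (hK k).mp hk _ hd, mul_inv_cancel_right, ← e2]
  have hKK : ∀ k ∈ K, ∀ k' ∈ K, ⁅k, k'⁆ ∈ omega D := by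
    intro k hk k' hk'
    have hd : ⁅k, k'⁆ ∈ D := comm_mem_of_sq hsq hk hk'
    refine h.ab.mem_omega.mpr ⟨hd, ?_⟩
    have e1 : ⁅k * k, k'⁆ = k * ⁅k, k'⁆ * k⁻¹ * ⁅k, k'⁆ := by simp only [commutatorElement_def]; group
    rw [commutatorElement_eq_one_iff_mul_comm.mpr ((hK k').mp hk' _ (hsq k hk)).symm,
      (hK k).mp hk _ hd, mul_inv_cancel_right] at e1
    exact e1.symm
  have hpowmul : ∀ k ∈ K, ∀ k' ∈ K, (k * k' * (k * k')) ^ P = (k * k) ^ P * (k' * k') ^ P := by
    intro k hk k' hk'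
    have hd := hKK _ (inv_mem hk) k' hk'
    have hdD := (h.ab.mem_omega.mp hd).1
    obtain ⟨q, hq⟩ := hP2
    rw [sq_mul_eq, hP, h.mul_pow' (mul_mem (hsq k hk) hdD) (hsq k' hk'), h.mul_pow' (hsq k hk) hdD, ← hP,
      show ⁅k⁻¹, k'⁆ ^ P = 1 by rw [hq, pow_mul, pow_two, h.ab.omega_sq _ hd, one_pow], mul_one]
  let N0 : Subgroup X :=
    { carrier := {k | k ∈ K ∧ (k * k) ^ P = 1}
      one_mem' := ⟨one_mem K, by simp⟩
      mul_mem' := fun {u v} hu hv => ⟨mul_mem hu.1 hv.1, by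
        rw [hpowmul u hu.1 v hv.1, hu.2, hv.2, one_mul]⟩
      inv_mem' := fun {u} hu => ⟨inv_mem hu.1, by rw [← mul_inv_rev, inv_pow, hu.2, inv_one]⟩ }
  have hN0 : ∀ k ∈ K, (k * k) ^ P = 1 → k ∈ D := by
    intro k hk hkp
    by_contra hkD
    haveI : N0.Normal := ⟨fun u hu g => ⟨hKn.conj_mem u hu.1 g, by
      rw [show g * u * g⁻¹ * (g * u * g⁻¹) = g * (u * u) * g⁻¹ by group, hP, h.pow_conj g (hsq u hu.1)]
      exact hu.2⟩⟩
    haveI : (N0.map (QuotientGroup.mk' D)).Normal :=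
      Subgroup.Normal.map inferInstance _ (QuotientGroup.mk'_surjective D)
    obtain ⟨z, ⟨w, ⟨hwK, hwp⟩, rfl⟩, hzc, hz1⟩ := Critical.exists_center_mem (hS.two.to_quotient D)
      (N := N0.map (QuotientGroup.mk' D)) (fun hb => by
        have h1 : QuotientGroup.mk' D k ∈ N0.map (QuotientGroup.mk' D) :=
          Subgroup.mem_map_of_mem _ (⟨hk, hkp⟩ : k ∈ N0)
        rw [hb, Subgroup.mem_bot] at h1
        exact hkD ((QuotientGroup.eq_one_iff k).mp h1))
    have hwD : w ∉ D := fun hh => hz1 ((QuotientGroup.eq_one_iff w).mpr hh)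
    obtain ⟨r, hr, hrr⟩ := h.exists_sqrt (hsq w hwK) hwp
    have hc : r⁻¹ * w = w * r⁻¹ := ((hK w).mp hwK _ (inv_mem hr)).symm
    refine hwD ?_
    have hmem : w * r⁻¹ ∈ D := by
      refine h.mem_of_inv hS ?_ (fun d hd => (hK _).mp (mul_mem hwK (hDK (inv_mem hr))) d hd) fun g => ?_
      · calc w * r⁻¹ * (w * r⁻¹) = w * (r⁻¹ * w) * r⁻¹ := by group
          _ = w * (w * r⁻¹) * r⁻¹ := by rw [hc]
          _ = (w * w) * (r * r)⁻¹ := by group
          _ = 1 := by rw [hrr, mul_inv_cancel]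
      · rw [← QuotientGroup.eq_one_iff, ← QuotientGroup.mk'_apply, map_commutatorElement,
          commutatorElement_eq_one_iff_mul_comm, map_mul,
          show QuotientGroup.mk' D r⁻¹ = 1 from (QuotientGroup.eq_one_iff _).mpr (inv_mem hr), mul_one]
        exact ((Subgroup.mem_center_iff.mp hzc) _).symm
    have := mul_mem hmem hr
    rwa [inv_mul_cancel_right] at this
  -- the centraliser is abelian
  have hKab : ∀ u ∈ K, ∀ v ∈ K, u * v = v * u := by
    by_cases hall : ∀ k ∈ K, k ∈ D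
    · exact fun u hu v hv => h.ab.comm u (hall u hu) v (hall v hv)
    push Not at hall
    obtain ⟨k, hk, hkD⟩ := hall
    set i := (k * k) ^ P with hi_def
    have hi : i ∈ omega D := h.pow_mem_omega (hsq k hk)
    have hi1 : i ≠ 1 := fun hh => hkD (hN0 k hk hh)
    obtain ⟨ha2, hne, ha1⟩ := h.a_sq hS hi hi1
    have hmap : ∀ u ∈ K, a u ∈ K := fun u hu => (hK _).mpr fun d hd => by
      have hd' : (a⁻¹ : MulAut X) d ∈ D := h.ab.map_mem _ hd
      have := congrArg a ((hK u).mp hu _ hd')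
      rwa [map_mul, map_mul, show a ((a⁻¹ : MulAut X) d) = d from a.apply_symm_apply d] at this
    have hak := hmap k hk
    have hai : (a k * a k) ^ P = a i := by rw [hi_def, map_pow, map_mul]
    have hboth : (k * a k * (k * a k)) ^ P = i * a i := by rw [hpowmul k hk _ hak, hai]
    have hcan : ∀ u ∈ K, ∀ v ∈ K, (u * u) ^ P = (v * v) ^ P → u⁻¹ * v ∈ D := by
      intro u hu v hv huv
      refine hN0 _ (mul_mem (inv_mem hu) hv) ?_
      rw [hpowmul _ (inv_mem hu) v hv, ← mul_inv_rev, inv_pow, huv, inv_mul_cancel]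
    have hgen : ∀ u ∈ K, u ∈ D ∨ k⁻¹ * u ∈ D ∨ (a k)⁻¹ * u ∈ D ∨ (k * a k)⁻¹ * u ∈ D := by
      intro u hu
      rcases h.cases' hS hi hi1 (h.pow_mem_omega (hsq u hu)) with hh | hh | hh | hh
      · exact Or.inl (hN0 u hu hh)
      · exact Or.inr (Or.inl (hcan k hk u hu hh.symm))
      · exact Or.inr (Or.inr (Or.inl (hcan _ hak u hu (by rw [hai]; exact hh.symm))))
      · exact Or.inr (Or.inr (Or.inr (hcan _ (mul_mem hk hak) u hu (by rw [hboth]; exact hh.symm))))
    have hkak : k * a k = a k * k := by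
      rw [← commutatorElement_eq_one_iff_mul_comm]
      refine h.fpf _ (hKK k hk _ hak) ?_
      have haak := hmap _ hak
      have hd : (k * a k)⁻¹ * a (a k) ∈ D := hcan _ (mul_mem hk hak) _ haak (by
        rw [hboth, ← ha2, hi_def]; simp only [map_pow, map_mul])
      have hcd := ((hK (a k)).mp hak _ hd)
      rw [map_commutatorElement, show a (a k) = k * a k * ((k * a k)⁻¹ * a (a k)) by group]
      set d := (k * a k)⁻¹ * a (a k)
      calc ⁅a k, k * a k * d⁆ = a k * k * a k * (d * (a k)⁻¹ * d⁻¹) * (a k)⁻¹ * k⁻¹ := by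
            simp only [commutatorElement_def]; group
        _ = a k * k * a k * (a k)⁻¹ * (a k)⁻¹ * k⁻¹ := by
            rw [show d * (a k)⁻¹ * d⁻¹ = (a k)⁻¹ from by
              rw [← (hK _).mp (inv_mem hak) d hd, mul_inv_cancel_right]]
        _ = ⁅k, a k⁆⁻¹ := by simp only [commutatorElement_def]; group
        _ = ⁅k, a k⁆ := inv_eq_of_mul_eq_one_right (h.ab.omega_sq _ (hKK k hk _ hak))
    have hone : ∀ u : X, k * u = u * k → a k * u = u * a k → u ∈ K → ∀ v ∈ K, v * u = u * v := by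
      intro u h1 h2 hu v hv
      have key : ∀ w : X, w * u = u * w → w⁻¹ * v ∈ D → v * u = u * v := fun w hw hwv => by
        calc v * u = w * ((w⁻¹ * v) * u) := by group
          _ = w * (u * (w⁻¹ * v)) := by rw [← (hK u).mp hu _ hwv]
          _ = w * u * w⁻¹ * v := by group
          _ = u * v := by rw [hw]; group
      rcases hgen v hv with hh | hh | hh | hh
      · exact ((hK u).mp hu v hh).symm
      · exact key k h1 hh
      · exact key _ h2 hh
      · exact key (k * a k) (by rw [mul_assoc, h2, ← mul_assoc, h1, mul_assoc]) hh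
    intro u hu v hv
    exact hone v (hone k rfl hkak.symm hk v hv).symm (hone _ hkak rfl hak v hv).symm hv u hu
  -- conclusion
  intro x hx
  refine (hcen x).mp fun c hc => hx c ((hcen c).mp fun c' hc' => hKab c (hCK hc) c' (hCK hc'))

end Cfsg.Agent.Lib.NoSCNThree
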